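import Cfsg.Agent.H650.Ppd.Count
import Cfsg.Agent.H925.NatDim

/-!
# Type `D₄` (helper156, TEAM PPD)

* `dim_le_list` : the upper bound of `H905/MdD` for words (one node outside `J`, cominuscule);
* **`dFour`** : type `D₄`, `dim V^U = 1`, `j ≤ dim Io i + 1` outside `J`, `dim V < 12 j` ⟹ `dim V ≤ 8`.
-/

set_option autoImplicit false
set_option linter.unusedSectionVars false
set_option linter.style.longLine false

namespace Cfsg.Agent.H156.Ppd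

open CoxeterSystem Cfsg.Agent.ChevalleyStructure.CoxeterGeom Cfsg.Agent.Tits.Roots Cfsg.Agent.Tits.Core
  Cfsg.Agent.Tits.Exchange Cfsg.Agent.Nodes.Reps Cfsg.Agent.Nodes.BNOf Cfsg.Agent.Nodes.StabComb
  Cfsg.Agent.Nodes.Bruhat Cfsg.Agent.Nodes.OppDec Cfsg.Agent.Nodes.RGDLib Cfsg.Agent.Omega.CR
  Cfsg.Agent.Omega.FOne.Lift.Sd Cfsg.Agent.H905.Md Cfsg.Agent.H905.DC Cfsg.Agent.H925.Nat Cfsg.Agent.H650.Ppd

section words

variable {I W Y : Type*} [Fintype I] [DecidableEq I] [Group W] [Group Y] {M : CoxeterMatrix I}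
  {cs : CoxeterSystem M W} {A : I → I → ℤ} {h : IsCartan M A}

theorem mem_of_isRoot {S : List (I → ℤ)} (h0 : ∀ j, (Pi.single j 1 : I → ℤ) ∈ S) (hS : ∀ x ∈ S, ∀ j, rfn A j x ∈ S)
    {x : I → ℤ} (hx : IsRoot cs h x) : x ∈ S := by
  obtain ⟨w, i, rfl⟩ := hx
  obtain ⟨ω, rfl⟩ := cs.wordProd_surjective w
  rw [rep_wordProd_sr]
  induction ω with
  | nil => exact h0 i
  | cons j ω ih => exact hS _ ih j

theorem rep_eq_sum (w : W) (y : I → ℤ) (i : I) : rep cs h w y i = ∑ m, y m * co cs h i w m := by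
  have h1 : y = ∑ m, y m • (sr m : I → ℤ) := by
    funext a
    rw [Finset.sum_apply]
    simp [sr, Pi.single_apply]
  conv_lhs => rw [h1]
  rw [map_sum, Finset.sum_apply]
  refine Finset.sum_congr rfl fun m _ => ?_
  rw [map_smul, Pi.smul_apply, smul_eq_mul]
  rfl

theorem co_mem {i : I} {L : List (I → ℤ)} (h0 : (Pi.single i 1 : I → ℤ) ∈ L) (hL : ∀ c ∈ L, ∀ j, fire A c j ∈ L)
    (w : W) : co cs h i w ∈ L := by
  obtain ⟨ω, rfl⟩ := cs.wordProd_surjective w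
  rw [co_wordProd]
  induction ω using List.reverseRecOn with
  | nil => exact h0
  | append_singleton ω j ih =>
    rw [cf, List.foldl_append, List.foldl_cons, List.foldl_nil]
    exact hL _ ih j

end words

section

variable {I W Y : Type*} [Fintype I] [DecidableEq I] [Group W] [Group Y] {M : CoxeterMatrix I}
  {cs : CoxeterSystem M W} {A : I → I → ℤ} {h : IsCartan M A} {p : ℕ} {T : Subgroup Y} {n : I → Y}
  {X : (I → ℤ) → Subgroup Y} {k V : Type*} [Field k] [AddCommGroup V] [Module k V]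
  (R : RGD cs h p T n X) [Finite Y] [Finite W] [Fact p.Prime] [CharP k p]
  {ρ : Y →* Module.End k V} [FiniteDimensional k V] [Nontrivial V]
  (hirr : ∀ L : Submodule k V, Ivt ρ (GG cs h T X) L → L = ⊥ ∨ L = ⊤)
include R hirr

theorem dim_le_list {i : I} (hi : i ∉ Jx cs h X ρ) (hJ : ∀ j, j ∉ Jx cs h X ρ → j = i)
    (hd : Module.finrank k (Le cs h T X ρ {i}) ≤ 2 * Module.finrank k (D cs h X ρ))
    (L : List (List I)) (h0 : (Pi.single i 1 : I → ℤ) ∈ L.map (cf A i))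
    (hL : ∀ c ∈ L.map (cf A i), ∀ j, fire A c j ∈ L.map (cf A i))
    (S : List (I → ℤ)) (hS0 : ∀ j, (Pi.single j 1 : I → ℤ) ∈ S) (hS : ∀ x ∈ S, ∀ j, rfn A j x ∈ S)
    (E : List (List I)) (hE0 : ∀ ω ∈ E, ∀ j ∈ ω, j ≠ i) (hE : ∀ x ∈ S, 0 < x i → x ∈ E.map (rf A i)) :
    Module.finrank k V ≤ L.length * Module.finrank k (D cs h X ρ) := by
  have h1 := dim_le R hirr (fun j hj => by rw [hJ j hj]; exact hd) (by
    rintro x ⟨hx, hx0, j, hj, hxj⟩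
    rw [hJ j hj] at hxj
    obtain ⟨ω, hω, rfl⟩ := List.mem_map.1 (hE x (mem_of_isRoot hS0 hS hx) hxj)
    refine ⟨cs.wordProd ω, ?_, i, hi, (rep_wordProd_sr i ω).symm⟩
    have h2 := hE0 ω hω
    clear hx hx0 hxj hω
    induction ω with
    | nil => rw [cs.wordProd_nil]; exact one_mem _
    | cons a ω ih =>
      rw [cs.wordProd_cons]
      refine mul_mem (Subgroup.subset_closure ⟨a, ?_, rfl⟩) (ih fun j hj => h2 j (List.mem_cons_of_mem _ hj))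
      by_contra hcon
      exact h2 a List.mem_cons_self (hJ a hcon)) (α := Fin L.length)
    (fun a => (cs.wordProd (L.get a))⁻¹) (by
    intro w
    obtain ⟨ω, hω, e⟩ := List.mem_map.1 (co_mem (cs := cs) (h := h) h0 hL w⁻¹)
    obtain ⟨a, rfl⟩ := List.mem_iff_get.1 hω
    refine ⟨a, ?_⟩
    rw [inv_inv, mem_WJ_iff (h := h)]
    intro x j hj
    rw [hJ j hj, rep_mul_apply, rep_eq_sum, co_wordProd, e, ← rep_eq_sum, rep_inv_apply])
  rwa [Fintype.card_fin] at h1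

end

/-- Cartan matrix -/
def mAD4 : Fin 4 → Fin 4 → ℤ := ![![2, -1, 0, 0], ![-1, 2, -1, -1], ![0, -1, 2, 0], ![0, -1, 0, 2]]

theorem mAD4_eq : (Nodes.TypeD.A 2) = mAD4 := by
  funext i j
  rw [Nodes.TypeD.A_apply]
  revert i j
  decide +kernel

/-- the roots -/
def rootsD4 : List (Fin 4 → ℤ) := [![0, 0, 0, 1], ![0, 0, 1, 0], ![0, 1, 0, 0], ![0, 1, 0, 1], ![0, 1, 1, 0], ![0, 1, 1, 1],
  ![1, 0, 0, 0], ![1, 1, 0, 0], ![1, 1, 0, 1], ![1, 1, 1, 0], ![1, 1, 1, 1], ![1, 2, 1, 1],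
  ![0, 0, 0, -1], ![0, 0, -1, 0], ![0, -1, 0, 0], ![0, -1, 0, -1], ![0, -1, -1, 0], ![0, -1, -1, -1],
  ![-1, 0, 0, 0], ![-1, -1, 0, 0], ![-1, -1, 0, -1], ![-1, -1, -1, 0], ![-1, -1, -1, -1], ![-1, -2, -1, -1]]

theorem rootsD4_simple : ∀ j, (Pi.single j 1 : Fin 4 → ℤ) ∈ rootsD4 := by decide +kernel

theorem rootsD4_refl : ∀ x ∈ rootsD4, ∀ j, rfn mAD4 j x ∈ rootsD4 := by decide +kernel

section D4

variable {W Y : Type*} [Group W] [Group Y] {cs : CoxeterSystem (Nodes.TypeD.M 2) W} {p : ℕ} {T : Subgroup Y} {n : Fin 4 → Y}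
  {X : (Fin 4 → ℤ) → Subgroup Y} {k V : Type*} [Field k] [AddCommGroup V] [Module k V]
  {A : Fin 4 → Fin 4 → ℤ} {h : IsCartan (Nodes.TypeD.M 2) A} (hA : A = mAD4)
  (R : RGD cs h p T n X) [Finite Y] [Finite W] [Fact p.Prime] [CharP k p]
  {ρ : Y →* Module.End k V} [FiniteDimensional k V] [Nontrivial V]
  (hirr : ∀ L : Submodule k V, Ivt ρ (GG cs h T X) L → L = ⊥ ∨ L = ⊤)
include hA R hirr

theorem dFour_one {i : Fin 4} (hi : i ∉ Jx cs h X ρ) :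
    (i = 1 ∧ 24 * Module.finrank k (D cs h X ρ) +
      12 * Module.finrank k (Io cs h T X ρ i) ≤ Module.finrank k V) ∨
    (i ≠ 1 ∧ 8 * Module.finrank k (D cs h X ρ) +
      24 * Module.finrank k (Io cs h T X ρ i) ≤ Module.finrank k V) := by
  subst hA
  have key : ∀ L E : List (List (Fin 4)), (L.map (cf mAD4 i)).Nodup →
      (E.map (mf mAD4 i)).Nodup → _ := fun L E => dim_ge_list R hirr hi L E
  fin_cases i
  · right
    exact ⟨by decide, key [[], [0], [0, 1], [0, 1, 2], [0, 1, 3], [0, 1, 2, 3], [0, 1, 2, 3, 1], [0, 1, 2, 3, 1, 0]]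
      [[], [1], [1, 0], [1, 2], [1, 3], [1, 0, 2], [1, 0, 3], [1, 2, 3], [1, 0, 2, 1], [1, 0, 2, 3], [1, 0, 3, 1], [1, 2, 3, 1], [1, 0, 2, 1, 3], [1, 0, 2, 3, 1], [1, 0, 3, 1, 2], [1, 2, 3, 1, 0], [1, 0, 2, 1, 3, 1], [1, 0, 2, 3, 1, 0], [1, 0, 2, 3, 1, 2], [1, 0, 2, 1, 3, 1, 0], [1, 0, 2, 1, 3, 1, 2], [1, 0, 2, 3, 1, 0, 2], [1, 0, 2, 1, 3, 1, 0, 2], [1, 0, 2, 1, 3, 1, 0, 2, 1]]
      (by decide +kernel) (by decide +kernel)⟩
  · left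
    exact ⟨rfl, key [[], [1], [1, 0], [1, 2], [1, 3], [1, 0, 2], [1, 0, 3], [1, 2, 3], [1, 0, 2, 1], [1, 0, 2, 3], [1, 0, 3, 1], [1, 2, 3, 1], [1, 0, 2, 1, 3], [1, 0, 2, 3, 1], [1, 0, 3, 1, 2], [1, 2, 3, 1, 0], [1, 0, 2, 1, 3, 1], [1, 0, 2, 3, 1, 0], [1, 0, 2, 3, 1, 2], [1, 0, 2, 1, 3, 1, 0], [1, 0, 2, 1, 3, 1, 2], [1, 0, 2, 3, 1, 0, 2], [1, 0, 2, 1, 3, 1, 0, 2], [1, 0, 2, 1, 3, 1, 0, 2, 1]]
      [[], [0], [2], [3], [0, 1], [0, 2], [0, 3], [2, 1], [2, 3], [3, 1], [0, 1, 2], [0, 1, 3]]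
       (by decide +kernel) (by decide +kernel)⟩
  · right
    exact ⟨by decide, key [[], [2], [2, 1], [2, 1, 0], [2, 1, 3], [2, 1, 0, 3], [2, 1, 0, 3, 1], [2, 1, 0, 3, 1, 2]]
      [[], [1], [1, 0], [1, 2], [1, 3], [1, 0, 2], [1, 0, 3], [1, 2, 3], [1, 0, 2, 1], [1, 0, 2, 3], [1, 0, 3, 1], [1, 2, 3, 1], [1, 0, 2, 1, 3], [1, 0, 2, 3, 1], [1, 0, 3, 1, 2], [1, 2, 3, 1, 0], [1, 0, 2, 1, 3, 1], [1, 0, 2, 3, 1, 0], [1, 0, 2, 3, 1, 2], [1, 0, 2, 1, 3, 1, 0], [1, 0, 2, 1, 3, 1, 2], [1, 0, 2, 3, 1, 0, 2], [1, 0, 2, 1, 3, 1, 0, 2], [1, 0, 2, 1, 3, 1, 0, 2, 1]]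
      (by decide +kernel) (by decide +kernel)⟩
  · right
    exact ⟨by decide, key [[], [3], [3, 1], [3, 1, 0], [3, 1, 2], [3, 1, 0, 2], [3, 1, 0, 2, 1], [3, 1, 0, 2, 1, 3]]
      [[], [1], [1, 0], [1, 2], [1, 3], [1, 0, 2], [1, 0, 3], [1, 2, 3], [1, 0, 2, 1], [1, 0, 2, 3], [1, 0, 3, 1], [1, 2, 3, 1], [1, 0, 2, 1, 3], [1, 0, 2, 3, 1], [1, 0, 3, 1, 2], [1, 2, 3, 1, 0], [1, 0, 2, 1, 3, 1], [1, 0, 2, 3, 1, 0], [1, 0, 2, 3, 1, 2], [1, 0, 2, 1, 3, 1, 0], [1, 0, 2, 1, 3, 1, 2], [1, 0, 2, 3, 1, 0, 2], [1, 0, 2, 1, 3, 1, 0, 2], [1, 0, 2, 1, 3, 1, 0, 2, 1]]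
      (by decide +kernel) (by decide +kernel)⟩

theorem dFour_two {i j : Fin 4} (hi : i ∉ Jx cs h X ρ) (hj : j ∉ Jx cs h X ρ)
    (hi1 : i ≠ 1) (hj1 : j ≠ 1) (hij : i < j) :
    12 * Module.finrank k (D cs h X ρ) ≤ Module.finrank k V := by
  subst hA
  have key : ∀ L : List (List (Fin 4)), (L.map fun ω => (cf mAD4 i ω, cf mAD4 j ω)).Nodup →
      L.length * Module.finrank k (D cs h X ρ) ≤ Module.finrank k V := fun L hL =>
    (Nat.le_add_right _ _).trans (dim_ge_list_two R hirr hi hj hij.ne L [] [] hL (by simp) (by simp))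
  have h1 : (i = 0 ∧ j = 2) ∨ (i = 0 ∧ j = 3) ∨ (i = 2 ∧ j = 3) := by omega
  rcases h1 with ⟨rfl, rfl⟩ | ⟨rfl, rfl⟩ | ⟨rfl, rfl⟩
  · exact key [[], [0], [2], [0, 1], [0, 2], [2, 1], [0, 1, 2], [0, 1, 3], [0, 2, 1], [2, 1, 0], [2, 1, 3], [0, 1, 2, 1]]
      (by decide +kernel)
  · exact key [[], [0], [3], [0, 1], [0, 3], [3, 1], [0, 1, 2], [0, 1, 3], [0, 3, 1], [3, 1, 0], [3, 1, 2], [0, 1, 2, 3]]
      (by decide +kernel)
  · exact key [[], [2], [3], [2, 1], [2, 3], [3, 1], [2, 1, 0], [2, 1, 3], [2, 3, 1], [3, 1, 0], [3, 1, 2], [2, 1, 0, 3]]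
      (by decide +kernel)

theorem dFour_le {i : Fin 4} (hi : i ∉ Jx cs h X ρ)
    (hJ : ∀ j, j ∉ Jx cs h X ρ → j = i) (hi1 : i ≠ 1)
    (hd : Module.finrank k (Le cs h T X ρ {i}) ≤ 2 * Module.finrank k (D cs h X ρ)) :
    Module.finrank k V ≤ 8 * Module.finrank k (D cs h X ρ) := by
  subst hA
  have key := dim_le_list R hirr hi hJ hd
  have h1 : i = 0 ∨ i = 2 ∨ i = 3 := by omega
  rcases h1 with rfl | rfl | rfl
  · exact key [[], [0], [0, 1], [0, 1, 2], [0, 1, 3], [0, 1, 2, 3], [0, 1, 2, 3, 1], [0, 1, 2, 3, 1, 0]]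
      (by decide +kernel) (by decide +kernel) rootsD4 rootsD4_simple rootsD4_refl
      [[], [1], [2, 1], [3, 1], [3, 2, 1], [1, 3, 2, 1]] (by decide +kernel) (by decide +kernel)
  · exact key [[], [2], [2, 1], [2, 1, 0], [2, 1, 3], [2, 1, 0, 3], [2, 1, 0, 3, 1], [2, 1, 0, 3, 1, 2]]
      (by decide +kernel) (by decide +kernel) rootsD4 rootsD4_simple rootsD4_refl
      [[], [1], [0, 1], [3, 1], [3, 0, 1], [1, 3, 0, 1]] (by decide +kernel) (by decide +kernel)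
  · exact key [[], [3], [3, 1], [3, 1, 0], [3, 1, 2], [3, 1, 0, 2], [3, 1, 0, 2, 1], [3, 1, 0, 2, 1, 3]]
      (by decide +kernel) (by decide +kernel) rootsD4 rootsD4_simple rootsD4_refl
      [[], [1], [0, 1], [2, 1], [2, 0, 1], [1, 2, 0, 1]] (by decide +kernel) (by decide +kernel)

/-- **Type `D₄`.** -/
theorem dFour (hG : G1 cs h X = ⊤) (hnt : ∃ (g : Y) (v : V), ρ g v ≠ v)
    (hD : Module.finrank k (D cs h X ρ) = 1) {j : ℕ}
    (hIo : ∀ i, i ∉ Jx cs h X ρ → j ≤ Module.finrank k (Io cs h T X ρ i) + 1)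
    (hlt : Module.finrank k V < 12 * j) : Module.finrank k V ≤ 8 := by
  obtain ⟨i, hi⟩ : ∃ i, i ∉ Jx cs h X ρ := by
    by_contra hcon
    push Not at hcon
    obtain ⟨g, v, hv⟩ := hnt
    exact hv (triv_of_Jx_univ R hirr hG hcon g v)
  have key : ∀ i, i ∉ Jx cs h X ρ → i ≠ 1 ∧ j = 1 ∧
      Module.finrank k (Io cs h T X ρ i) = 0 := by
    intro i hi
    have h1 := hIo i hi
    rcases dFour_one hA R hirr hi with ⟨-, h2⟩ | ⟨h3, h2⟩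
    · rw [hD] at h2
      omega
    · rw [hD] at h2
      exact ⟨h3, by omega, by omega⟩
  have hJ : ∀ j, j ∉ Jx cs h X ρ → j = i := by
    intro i' hi'
    by_contra hne
    obtain ⟨h1, h2, -⟩ := key i hi
    obtain ⟨h3, -, -⟩ := key i' hi'
    rcases lt_or_gt_of_ne hne with h4 | h4
    · have := dFour_two hA R hirr hi' hi h3 h1 h4
      omega
    · have := dFour_two hA R hirr hi hi' h1 h3 h4
      omega
  obtain ⟨h1, h2, h3⟩ := key i hi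
  have h4 := finrank_Io R hirr (ρ := ρ) i
  have h5 := dFour_le hA R hirr hi hJ h1 (by omega)
  omega

end D4

end Cfsg.Agent.H156.Ppd
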