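import Cfsg.Agent.H156.Ppd.DBound
import Cfsg.Agent.H156.Ppd.DFour

/-!
# Type `D_l`: small modules (helper156, TEAM PPD)

* **`dAll`** : `l = n + 2 ≥ 5`, `dim V^U = 1`, `j ≤ dim Io i + 1` for `i ∉ J`, `dim V < 4 (l - 1) j` ⟹ `J = {0}ᶜ` and
  `dim Le {0} ≤ 2`.
-/

set_option autoImplicit false
set_option linter.unusedSectionVars false

namespace Cfsg.Agent.H156.Ppd.DSg

open CoxeterSystem Cfsg.Agent.ChevalleyStructure.CoxeterGeom Cfsg.Agent.Tits.Roots Cfsg.Agent.Tits.Core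
  Cfsg.Agent.Tits.Exchange Cfsg.Agent.Nodes.Reps Cfsg.Agent.Nodes.BNOf Cfsg.Agent.Nodes.StabComb
  Cfsg.Agent.Nodes.Bruhat Cfsg.Agent.Nodes.OppDec Cfsg.Agent.Nodes.LeviDec Cfsg.Agent.KFacts.RgdOpp
  Cfsg.Agent.Omega.CR Cfsg.Agent.Omega.FOne.Lift.Sd Cfsg.Agent.H905.Md Cfsg.Agent.Nodes.TypeD
  Cfsg.Agent.Nodes.RGDLib

variable {n : ℕ}

theorem two_mul_choose (n : ℕ) : (n + 2).choose 2 * 2 = (n + 2) * (n + 1) := by
  have h1 := Nat.choose_two_right (n + 2)
  have h2 : 2 ∣ (n + 2) * (n + 2 - 1) := (Nat.even_mul_pred_self (n + 2)).two_dvd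
  rw [h1, Nat.div_mul_cancel h2]
  rfl

theorem four_le_two_pow : ∀ n : ℕ, 3 ≤ n → 4 * (n + 1) ≤ 2 ^ (n + 1) := by
  intro n hn
  induction n, hn using Nat.le_induction with
  | base => norm_num
  | succ n hn ih => rw [pow_succ]; omega

section bounds

variable {W Y : Type*} [Group W] [Group Y] {cs : CoxeterSystem (Nodes.TypeD.M n) W} {p : ℕ} {T : Subgroup Y}
  {m : Fin (n + 2) → Y} {X : (Fin (n + 2) → ℤ) → Subgroup Y} {k V : Type*} [Field k] [AddCommGroup V] [Module k V]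
  (R : RGD cs (isCartan n) p T m X) [Finite Y] [Finite W] [Fact p.Prime] [CharP k p]
  {ρ : Y →* Module.End k V} [FiniteDimensional k V] [Nontrivial V]
  (hirr : ∀ L : Submodule k V, Ivt ρ (GG cs (isCartan n) T X) L → L = ⊥ ∨ L = ⊤)
include R hirr

/-- **Type `D_l`, `l ≥ 5`.** -/
theorem dAll (hn : 3 ≤ n) (hG : G1 cs (isCartan n) X = ⊤) (hnt : ∃ (g : Y) (v : V), ρ g v ≠ v)
    (hD : Module.finrank k (D cs (isCartan n) X ρ) = 1) {j : ℕ}
    (hIo : ∀ i, i ∉ Jx cs (isCartan n) X ρ → j ≤ Module.finrank k (Io cs (isCartan n) T X ρ i) + 1)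
    (hlt : Module.finrank k V < 4 * (n + 1) * j) :
    (∀ i, i ∈ Jx cs (isCartan n) X ρ ↔ i ≠ 0) ∧ Module.finrank k (Le cs (isCartan n) T X ρ {0}) ≤ 2 := by
  have hC := two_mul_choose n
  obtain ⟨i0, hi0⟩ : ∃ i, i ∉ Jx cs (isCartan n) X ρ := by
    by_contra hcon
    push Not at hcon
    obtain ⟨g, v, hv⟩ := hnt
    exact hv (H925.Nat.triv_of_Jx_univ R hirr hG hcon g v)
  have hj : ∀ c, j ≤ c + 1 → Module.finrank k V < 4 * (n + 1) * (c + 1) := fun c hc =>
    lt_of_lt_of_le hlt (Nat.mul_le_mul_left _ hc)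
  have key : ∀ i, i ∉ Jx cs (isCartan n) X ρ → i = 0 ∧ Module.finrank k (Io cs (isCartan n) T X ρ i) = 0 := by
    intro i hi
    have h1 := hj _ (hIo i hi)
    rcases Nat.eq_zero_or_pos (i : ℕ) with h0 | h0
    · have h2 : i = 0 := Fin.ext h0
      subst h2
      refine ⟨rfl, ?_⟩
      have h3 := dim_O R hirr (by omega) hi
      rw [hD, mul_one, show (n + 2).choose 2 * 4 = 2 * ((n + 2).choose 2 * 2) by ring, hC] at h3
      set c := Module.finrank k (Io cs (isCartan n) T X ρ 0)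
      by_contra hc
      have hc' : 1 ≤ c := Nat.one_le_iff_ne_zero.2 hc
      nlinarith [Nat.mul_le_mul_left (n + 1) hc', Nat.mul_le_mul hn (Nat.mul_le_mul_left (n + 1) hc')]
    · exfalso
      rcases Nat.lt_or_ge (i : ℕ) n with h2 | h2
      · have h3 := dim_V R hirr hi h0 h2
        have h4 := choose_two_le (m := n + 2) (k := (i : ℕ) + 1) (by omega) (by omega)
        rw [hD, mul_one, hC] at h3
        set c := Module.finrank k (Io cs (isCartan n) T X ρ i)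
        nlinarith [Nat.mul_le_mul_left (n + 1) hn, Nat.mul_le_mul hn (Nat.mul_le_mul_left (n + 1) (Nat.zero_le c))]
      · have h3 := dim_H R hirr (by omega) hi h2
        have h4 := four_le_two_pow n hn
        rw [hD, mul_one, hC] at h3
        set c := Module.finrank k (Io cs (isCartan n) T X ρ i)
        nlinarith [Nat.mul_le_mul_left (n + 1) hn, Nat.mul_le_mul hn (Nat.mul_le_mul_left (n + 1) (Nat.zero_le c))]
  have h00 := (key i0 hi0).1
  subst h00
  refine ⟨fun i => ⟨fun h1 h2 => hi0 (h2 ▸ h1), fun h1 => ?_⟩, ?_⟩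
  · by_contra h2
    exact h1 (key i h2).1
  · have h1 := finrank_Io R hirr (ρ := ρ) (0 : Fin (n + 2))
    rw [(key 0 hi0).2, hD] at h1
    omega

end bounds

end Cfsg.Agent.H156.Ppd.DSg
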