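import Cfsg.Agent.H905.MdC

/-!
# A lower bound for the edges (helper156, TEAM PPD)

`R : RGD cs h p T n X`, `ρ` simple over a finite field `k` of characteristic `p`, `dim V^U = 1`.

* `finrank_cm` : `dim [Le {i}, X_{-i}] + dim V^U ≤ dim Le {i}`;
* **`edge_card`** : `i ∉ J`, `|X_{-i}| = |k| ^ j`, `X_{-i}` without proper `T`-invariant subgroups: `j + 1 ≤ dim Le {i}`.
-/

set_option autoImplicit false
set_option linter.unusedSectionVars false

namespace Cfsg.Agent.H156.Ppd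

open CoxeterSystem Cfsg.Agent.ChevalleyStructure.CoxeterGeom Cfsg.Agent.Tits.Roots Cfsg.Agent.Tits.Core
  Cfsg.Agent.Tits.Exchange Cfsg.Agent.Nodes.Reps Cfsg.Agent.Nodes.BNOf Cfsg.Agent.Nodes.StabComb
  Cfsg.Agent.Nodes.Bruhat Cfsg.Agent.Nodes.OppDec Cfsg.Agent.Nodes.LeviDec Cfsg.Agent.KFacts.RgdOpp
  Cfsg.Agent.Omega.CR Cfsg.Agent.Omega.FOne.Lift.Sd Cfsg.Agent.H905.Md

variable {I W Y : Type*} [Fintype I] [DecidableEq I] [Group W] [Group Y] {M : CoxeterMatrix I}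
  {cs : CoxeterSystem M W} {A : I → I → ℤ} {h : IsCartan M A} {p : ℕ} {T : Subgroup Y} {n : I → Y}
  {X : (I → ℤ) → Subgroup Y} {k V : Type*} [Field k] [AddCommGroup V] [Module k V]
  (R : RGD cs h p T n X) [Finite Y] [Finite W] [Fact p.Prime] [CharP k p]
  {ρ : Y →* Module.End k V} [FiniteDimensional k V] [Nontrivial V]
  (hirr : ∀ L : Submodule k V, Ivt ρ (GG cs h T X) L → L = ⊥ ∨ L = ⊤)
include R hirr

theorem finrank_cm (i : I) : Module.finrank k (cm ρ (X (-sr i)) (Le cs h T X ρ {i})) +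
    Module.finrank k (D cs h X ρ) ≤ Module.finrank k (Le cs h T X ρ {i}) := by
  have h1 : D cs h X ρ ⊓ cm ρ (X (-sr i)) (Le cs h T X ρ {i}) = ⊥ := by
    rw [eq_bot_iff]
    rintro v ⟨hv, hv'⟩
    by_contra hv0
    obtain ⟨φ, hφ, hne⟩ := exists_pair_D R hirr hv hv0
    refine hne (apply_cm (B := X (-sr i)) ?_ hv')
    intro b hb
    exact hφ b (X_le_UN (isRoot_sr cs h i).neg (neg_nonpos.2 (sr_nonneg i)) hb)
  have h2 := Submodule.finrank_sup_add_finrank_inf_eq (D cs h X ρ) (cm ρ (X (-sr i)) (Le cs h T X ρ {i}))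
  rw [h1, finrank_bot, add_zero] at h2
  have h3 := Submodule.finrank_mono (sup_le (D_le_Le R (ρ := ρ) {i})
    (cm_le_Le R (ρ := ρ) (RootsJ.neg (sr_mem_Roots i))))
  omega

/-- **The lower bound for the edges.** -/
theorem edge_card [Finite k] {i : I} (hi : i ∉ Jx cs h X ρ) (hD : Module.finrank k (D cs h X ρ) = 1) {j : ℕ}
    (hcard : Nat.card (X (-sr i)) = Nat.card k ^ j)
    (hmin : ∀ S ≤ X (-sr i), (∀ t ∈ T, ∀ x ∈ S, t * x * t⁻¹ ∈ S) → S = ⊥ ∨ S = X (-sr i)) :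
    j + 1 ≤ Module.finrank k (Le cs h T X ρ {i}) := by
  have hfV : Finite V := Module.finite_of_finite k
  obtain ⟨⟨v, hv⟩, hv0, hv1⟩ := finrank_eq_one_iff'.1 hD
  have hsc : ∀ w ∈ D cs h X ρ, ∃ a : k, a • v = w := fun w hw => by
    obtain ⟨a, ha⟩ := hv1 ⟨w, hw⟩
    exact ⟨a, congrArg Subtype.val ha⟩
  let S : Subgroup Y :=
    { carrier := {x | x ∈ X (-sr i) ∧ ρ x v = v}
      one_mem' := ⟨one_mem _, rho_one ρ v⟩
      mul_mem' := by
        rintro a b ⟨ha, ha'⟩ ⟨hb, hb'⟩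
        exact ⟨mul_mem ha hb, by rw [rho_mul, hb', ha']⟩
      inv_mem' := by
        rintro a ⟨ha, ha'⟩
        exact ⟨inv_mem ha, by
          conv_lhs => rw [← ha']
          exact rho_inv_rho ρ a v⟩ }
  have hS : S = ⊥ := by
    rcases hmin S (fun x hx => hx.1) (by
      rintro t ht x ⟨hx, hx'⟩
      refine ⟨?_, ?_⟩
      · rw [← R.tor _ (isRoot_sr cs h i).neg t ht]
        exact conj_mem_cj.2 hx
      · obtain ⟨a, ha⟩ := hsc _ (D_ivt R hirr t⁻¹ (inv_mem ht) v hv)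
        rw [rho_mul, rho_mul, ← ha, map_smul, hx', ha, rho_rho_inv]) with h1 | h1
    · exact h1
    · exfalso
      apply hi
      intro x hx w hw
      obtain ⟨a, rfl⟩ := hsc w hw
      rw [← h1] at hx
      rw [map_smul, hx.2]
  have hvL : v ∈ Le cs h T X ρ {i} := D_le_Le R {i} hv
  let g : X (-sr i) → cm ρ (X (-sr i)) (Le cs h T X ρ {i}) := fun x => ⟨ρ x v - v, mem_cm x.2 hvL⟩
  have hg : Function.Injective g := by
    intro x y hxy
    have h1 : ρ (x : Y) v - v = ρ (y : Y) v - v := congrArg Subtype.val hxy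
    have h2 : ρ (x : Y) v = ρ (y : Y) v := sub_left_injective h1
    have h3 : (y : Y)⁻¹ * x ∈ S := ⟨mul_mem (inv_mem y.2) x.2, by rw [rho_mul, h2, rho_inv_rho]⟩
    rw [hS, Subgroup.mem_bot] at h3
    exact Subtype.ext (inv_mul_eq_one.1 h3).symm
  have h1 := Nat.card_le_card_of_injective g hg
  rw [hcard, Module.natCard_eq_pow_finrank (K := k) (V := ↥(cm ρ (X (-sr i)) (Le cs h T X ρ {i})))] at h1
  have h2 : j ≤ Module.finrank k (cm ρ (X (-sr i)) (Le cs h T X ρ {i})) :=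
    (Nat.pow_le_pow_iff_right Finite.one_lt_card).1 h1
  have h3 := finrank_cm R hirr (ρ := ρ) i
  omega

end Cfsg.Agent.H156.Ppd
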