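import Cfsg.Agent.H156.Ppd.Cover
import Cfsg.Agent.H156.Ppd.Edge
import Cfsg.Agent.OddHalf.NI.Mult
import Cfsg.Agent.H60.CrossA

/-!
# Root groups which are `T`-simple (helper156, TEAM PPD)

* `TS T X` : the only `T`-invariant subgroups of `X` are `1` and `X`;
* `ts_of_lo`, `ts_of_up` : `X = s(lo K)` for a homomorphism `s` from `SL(2, K)` with `s(dg t) ∈ T`;
* `Cov.card_lft`, `Cov.ts_lft` : lifting to the covering group;
* **`Cov.edge`** : `i ∉ J`, `|X_{-i}| = |F| ^ j`, `TS`: `j + 1 ≤ dim Le {i}`, `j - 1 ≤ dim Io i`;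
* `noCE_of_coord` : the rank one groups of a datum with injective coordinates have no central extensions.
-/

set_option autoImplicit false
set_option linter.unusedSectionVars false

namespace Cfsg.Agent.H156.Ppd

open CoxeterSystem Cfsg.Agent.ChevalleyStructure.CoxeterGeom Cfsg.Agent.Tits.Roots Cfsg.Agent.Tits.Core
  Cfsg.Agent.Tits.Exchange Cfsg.Agent.Nodes.Reps Cfsg.Agent.Nodes.BNOf Cfsg.Agent.Nodes.StabComb
  Cfsg.Agent.Nodes.Bruhat Cfsg.Agent.Nodes.OppDec Cfsg.Agent.Nodes.RGDLib Cfsg.Agent.Omega.CR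
  Cfsg.Agent.Omega.FOne.Lift.Sd Cfsg.Agent.H911 Cfsg.Agent.H905.Md Cfsg.Agent.Nodes.RGDLift Cfsg.Agent.H915.LD
  Cfsg.Agent.H925.Nat
open Cfsg.Agent.OddHalf.NI.Mult (up lo dg dgHom Coord)
open Cfsg.Agent.KFacts.MulOdd.Inst (Lv)
open Cfsg.Agent.OddHalf.NI Cfsg.Agent.H67.Cross
open Cfsg Cfsg.Geo
open scoped MatrixGroups Matrix commutatorElement

universe u v w

/-- the only `T`-invariant subgroups of `X` are `1` and `X` -/
def TS {G : Type*} [Group G] (T X : Subgroup G) : Prop :=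
  ∀ S ≤ X, (∀ t ∈ T, ∀ x ∈ S, t * x * t⁻¹ ∈ S) → S = ⊥ ∨ S = X

/-- additive subgroups of a finite field which are invariant under squares -/
theorem eq_of_sq {K : Type*} [Field K] [Finite K] (S : AddSubgroup K) (h : ∀ (t : Kˣ), ∀ a ∈ S, (t : K) ^ 2 * a ∈ S) :
    S = ⊥ ∨ S = ⊤ := by
  have h0 : ∀ (t : K), ∀ a ∈ S, t ^ 2 * a ∈ S := by
    intro t a ha
    by_cases ht : t = 0
    · rw [ht]; simp
    · exact h (Units.mk0 t ht) a ha
  have hall : ∀ x : K, ∀ a ∈ S, x * a ∈ S := by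
    intro x a ha
    by_cases h2 : (2 : K) = 0
    · have hch : CharP K 2 := CharTwo.of_one_ne_zero_of_two_eq_zero one_ne_zero h2
      have : Fact (Nat.Prime 2) := ⟨Nat.prime_two⟩
      obtain ⟨c, hc⟩ := (Finite.injective_iff_surjective.1 (frobenius_inj K 2)) x
      rw [frobenius_def] at hc
      rw [← hc]
      exact h0 c a ha
    · obtain ⟨c, d, rfl⟩ := Mult.exists_sq_sub h2 x
      rw [sub_mul]
      exact S.sub_mem (h0 c a ha) (h0 d a ha)
  by_cases hS : S = ⊥
  · exact Or.inl hS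
  · right
    obtain ⟨a, ha0⟩ := AddSubgroup.ne_bot_iff_exists_ne_zero.1 hS
    rw [eq_top_iff]
    intro x _
    have h1 := hall (x / (a : K)) a a.2
    rwa [div_mul_cancel₀ _ (fun h => ha0 (Subtype.ext h))] at h1

theorem ts_of_lo {G : Type*} [Group G] {T X : Subgroup G} {K : Type*} [Field K] [Finite K]
    (s : Matrix.SpecialLinearGroup (Fin 2) K →* G) (hX : (X : Set G) = Set.range fun a : K => s (lo a))
    (hT : ∀ t : Kˣ, s (dg t) ∈ T) : TS T X := by
  intro S hS hSt
  let S0 : AddSubgroup K :=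
    { carrier := {a | s (lo a) ∈ S}
      zero_mem' := by
        change s (lo 0) ∈ S
        rw [Mult.lo_zero, map_one]
        exact one_mem _
      add_mem' := by
        intro a b (ha : s (lo a) ∈ S) (hb : s (lo b) ∈ S)
        change s (lo (a + b)) ∈ S
        rw [Mult.lo_add, map_mul]
        exact mul_mem ha hb
      neg_mem' := by
        intro a (ha : s (lo a) ∈ S)
        change s (lo (-a)) ∈ S
        rw [Mult.lo_neg, map_inv]
        exact inv_mem ha }
  have h1 : ∀ (t : Kˣ), ∀ a ∈ S0, (t : K) ^ 2 * a ∈ S0 := by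
    intro t a (ha : s (lo a) ∈ S)
    have h2 := hSt _ (hT t⁻¹) _ ha
    rw [← map_mul, ← map_inv, ← map_mul, Mult.dg_mul_lo, inv_inv] at h2
    exact h2
  have hmem : ∀ x ∈ X, ∃ a, s (lo a) = x := by
    intro x hx
    have : x ∈ (X : Set G) := hx
    rw [hX] at this
    exact this
  rcases eq_of_sq S0 h1 with h2 | h2
  · left
    rw [eq_bot_iff]
    intro x hx
    obtain ⟨a, rfl⟩ := hmem x (hS hx)
    have h3 : a ∈ S0 := hx
    rw [h2, AddSubgroup.mem_bot] at h3
    rw [h3, Mult.lo_zero, map_one]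
    exact one_mem _
  · right
    refine le_antisymm hS fun x hx => ?_
    obtain ⟨a, rfl⟩ := hmem x hx
    have h3 : a ∈ S0 := by rw [h2]; trivial
    exact h3

theorem ts_of_up {G : Type*} [Group G] {T X : Subgroup G} {K : Type*} [Field K] [Finite K]
    (s : Matrix.SpecialLinearGroup (Fin 2) K →* G) (hX : (X : Set G) = Set.range fun a : K => s (up a))
    (hT : ∀ t : Kˣ, s (dg t) ∈ T) : TS T X := by
  intro S hS hSt
  let S0 : AddSubgroup K :=
    { carrier := {a | s (up a) ∈ S}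
      zero_mem' := by
        change s (up 0) ∈ S
        rw [Mult.up_zero, map_one]
        exact one_mem _
      add_mem' := by
        intro a b (ha : s (up a) ∈ S) (hb : s (up b) ∈ S)
        change s (up (a + b)) ∈ S
        rw [Mult.up_add, map_mul]
        exact mul_mem ha hb
      neg_mem' := by
        intro a (ha : s (up a) ∈ S)
        change s (up (-a)) ∈ S
        rw [Mult.up_neg, map_inv]
        exact inv_mem ha }
  have h1 : ∀ (t : Kˣ), ∀ a ∈ S0, (t : K) ^ 2 * a ∈ S0 := by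
    intro t a (ha : s (up a) ∈ S)
    have h2 := hSt _ (hT t) _ ha
    rw [← map_mul, ← map_inv, ← map_mul, Mult.dg_mul_up] at h2
    exact h2
  have hmem : ∀ x ∈ X, ∃ a, s (up a) = x := by
    intro x hx
    have : x ∈ (X : Set G) := hx
    rw [hX] at this
    exact this
  rcases eq_of_sq S0 h1 with h2 | h2
  · left
    rw [eq_bot_iff]
    intro x hx
    obtain ⟨a, rfl⟩ := hmem x (hS hx)
    have h3 : a ∈ S0 := hx
    rw [h2, AddSubgroup.mem_bot] at h3
    rw [h3, Mult.up_zero, map_one]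
    exact one_mem _
  · right
    refine le_antisymm hS fun x hx => ?_
    obtain ⟨a, rfl⟩ := hmem x hx
    have h3 : a ∈ S0 := by rw [h2]; trivial
    exact h3

namespace Cov

variable {I W : Type} {𝔾 : Type v} {Y : Type w} {F : Type u} [Fintype I] [DecidableEq I] [Group W] [Finite W] [Group 𝔾]
  [Group Y] [Finite Y] [Field F] [Finite F] {ι : Type} [Fintype ι] [DecidableEq ι] {M : CoxeterMatrix I}
  {cs : CoxeterSystem M W} {A : I → I → ℤ} {h : IsCartan M A} {p : ℕ} [hp : Fact p.Prime] [hcF : CharP F p]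
  {T : Subgroup 𝔾} {n : I → 𝔾}
  {X : (I → ℤ) → Subgroup 𝔾} {P : Subgroup (GL ι F)} {f : Y →* 𝔾} {φ : Y →* GL ι F} {n₁ : I → Y}
  (C : Cov cs h p T n X P f φ n₁)
include C

theorem card_lft {Z : Subgroup 𝔾} (hZ : IsPGroup p Z) : Nat.card (lft p f Z) = Nat.card Z := by
  have h1 := map_lft C.ker C.cop C.surj hZ
  conv_rhs => rw [← h1]
  refine Nat.card_congr (Equiv.ofBijective (fun x : lft p f Z => (⟨f x, Subgroup.mem_map_of_mem f x.2⟩ :
    (lft p f Z).map f)) ⟨?_, ?_⟩)
  · intro x y hxy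
    have h2 : f x = f y := congrArg Subtype.val hxy
    have h3 : f ((x : Y)⁻¹ * y) = 1 := by rw [map_mul, map_inv, h2, inv_mul_cancel]
    exact Subtype.ext (inv_mul_eq_one.1 (eq_one_of_mem_lft C.ker C.cop hZ (mul_mem (inv_mem x.2) y.2) h3))
  · rintro ⟨_, x, hx, rfl⟩
    exact ⟨⟨x, hx⟩, rfl⟩

theorem ts_lft {Z : Subgroup 𝔾} (hZ : IsPGroup p Z) (hTS : TS T Z) : TS (T.comap f) (lft p f Z) := by
  intro S hS hSt
  have h1 := map_lft C.ker C.cop C.surj hZ
  have hSle : S.map f ≤ Z := by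
    rw [← h1]
    exact Subgroup.map_mono hS
  rcases hTS (S.map f) hSle (by
    rintro t ht _ ⟨x, hx, rfl⟩
    obtain ⟨t, rfl⟩ := C.surj t
    exact ⟨t * x * t⁻¹, hSt t ht x hx, by rw [map_mul, map_mul, map_inv]⟩) with h2 | h2
  · left
    rw [eq_bot_iff]
    intro x hx
    have h3 : f x ∈ S.map f := Subgroup.mem_map_of_mem f hx
    rw [h2, Subgroup.mem_bot] at h3
    rw [Subgroup.mem_bot]
    exact eq_one_of_mem_lft C.ker C.cop hZ (hS hx) h3
  · right
    refine le_antisymm hS fun x hx => ?_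
    have h3 : f x ∈ S.map f := by
      rw [h2, ← h1]
      exact Subgroup.mem_map_of_mem f hx
    obtain ⟨y, hy, e⟩ := h3
    have h4 : f (y⁻¹ * x) = 1 := by rw [map_mul, map_inv, e, inv_mul_cancel]
    have h5 := eq_one_of_mem_lft C.ker C.cop hZ (mul_mem (inv_mem (hS hy)) hx) h4
    rw [← inv_mul_eq_one.1 h5]
    exact hy

/-- **The lower bound for an edge.** -/
theorem edge (R : RGD cs h p T n X) (hC : Core P) {i : I}
    (hi : i ∉ Jx cs h (fun x => lft p f (X x)) (lrep φ))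
    (hD : Module.finrank F (D cs h (fun x => lft p f (X x)) (lrep φ)) = 1) {j : ℕ}
    (hcard : Nat.card (X (-sr i)) = Nat.card F ^ j) (hTS : TS T (X (-sr i))) :
    j + 1 ≤ Module.finrank F (Le cs h (T.comap f) (fun x => lft p f (X x)) (lrep φ) {i}) := by
  have hnV := C.nontriv hC
  have hP := R.pgrp' (isRoot_sr cs h i).neg
  exact edge_card C.rgd (C.hirr hC) hi hD (by rw [C.card_lft hP, hcard]) (C.ts_lft hP hTS)

theorem edge_Io (R : RGD cs h p T n X) (hC : Core P) {i : I}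
    (hi : i ∉ Jx cs h (fun x => lft p f (X x)) (lrep φ))
    (hD : Module.finrank F (D cs h (fun x => lft p f (X x)) (lrep φ)) = 1) {j : ℕ}
    (hcard : Nat.card (X (-sr i)) = Nat.card F ^ j) (hTS : TS T (X (-sr i))) :
    j ≤ Module.finrank F (Io cs h (T.comap f) (fun x => lft p f (X x)) (lrep φ) i) + 1 := by
  have hnV := C.nontriv hC
  have h1 := C.edge R hC hi hD hcard hTS
  have h2 := finrank_Io C.rgd (C.hirr hC) i
  omega

end Cov

/-- Rank one groups with injective coordinates have no central extensions. -/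
theorem noCE_of_coord {I 𝔾 : Type*} [Fintype I] [DecidableEq I] [Group 𝔾] {X : (I → ℤ) → Subgroup 𝔾} {K : I → Type w}
    [∀ i, Field (K i)] [∀ i, Finite (K i)] {s : ∀ i, Matrix.SpecialLinearGroup (Fin 2) (K i) →* 𝔾} (C : Coord X K s)
    {i : I} (hinj : Function.Injective (s i)) {p r : ℕ} (hp : p.Prime) [CharP (K i) p] (hr : r.Prime) (hne : r ≠ p) :
    NoCE p r ↥(Lv X i) := by
  have hran : (s i).range = Lv X i := le_antisymm (C.range_le_KK i) (C.KK_le_range i)
  exact NoCE.congr (H60.CrossA.noCE_SL hp hr hne)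
    ((MonoidHom.ofInjective hinj).trans (MulEquiv.subgroupCongr hran))

end Cfsg.Agent.H156.Ppd
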