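import Cfsg.Agent.H64.Cross
import Cfsg.Agent.H67.RankOneId
import Cfsg.Agent.KFacts.MulOdd.Shrink

/-!
# The torus of a perfect central `p'`-extension (helper156, TEAM PPD)

`R : RGD cs h p T n X` in `G`, `π : Y → G` central with kernel of order prime to `p`, `Y` generated by the lifted root
groups, the rank one groups `Lv X i` without central extensions of order `r ≠ p` (`NoCE p r`).

* `inf_ker_eq` : the rank one groups of `Y` meet the kernel trivially;
* **`comap_comm`** : `T` commutative ⟹ `π⁻¹(T)` commutative;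
* **`comap_pow`** : `t ^ Q = t` on `T` ⟹ `t ^ Q = t` on `π⁻¹(T)`.
-/

set_option autoImplicit false
set_option linter.unusedSectionVars false
set_option linter.style.haveILetI false

namespace Cfsg.Agent.H156.Ppd

open CoxeterSystem Cfsg.Agent.ChevalleyStructure.CoxeterGeom Cfsg.Agent.Tits.Roots
  Cfsg.Agent.Nodes.Reps Cfsg.Agent.Nodes.BNOf Cfsg.Agent.Nodes.RGDLib Cfsg.Agent.Nodes.RGDLift
  Cfsg.Agent.KFacts.MulOdd.Inst Cfsg.Agent.KFacts.MulOdd.Shrink Cfsg.Agent.KFacts.MulOdd.Main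
  Cfsg.Agent.H67 Cfsg.Agent.H67.Cross Cfsg.Agent.H67.RankOneId
open scoped commutatorElement Pointwise

universe u v

variable {I W G Y : Type*} [Fintype I] [DecidableEq I] [Group W] [Finite W] [Group G] [Group Y] [Finite Y]
  {M : CoxeterMatrix I} {cs : CoxeterSystem M W} {A : I → I → ℤ} {h : IsCartan M A} {p : ℕ} [hp' : Fact p.Prime]
  {T : Subgroup G} {n : I → G} {X : (I → ℤ) → Subgroup G} {π : Y →* G}

theorem inf_ker_eq (hf : π.ker ≤ Subgroup.center Y) (hp : (Nat.card π.ker).Coprime p) (hs : Function.Surjective π)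
    (R : RGD cs h p T n X) (rk : ∀ i, ∀ r : ℕ, r.Prime → r ≠ p → NoCE p r ↥(Lv X i)) (i : I) {x : Y}
    (hx : x ∈ Lv (fun x => lft p π (X x)) i) (hπ : π x = 1) : x = 1 := by
  classical
  have hP1 := R.pgrp i
  have hP2 := R.pgrp' (isRoot_sr cs h i).neg
  set H : Subgroup Y := Lv (fun x => lft p π (X x)) i with hH
  have hmap : H.map π = Lv X i := by
    rw [hH]
    unfold Lv
    rw [Subgroup.map_sup, map_lft hf hp hs hP1, map_lft hf hp hs hP2]
  have hmem : ∀ y : H, π y ∈ Lv X i := by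
    intro y
    rw [← hmap]
    exact Subgroup.mem_map_of_mem π y.2
  let f : H →* ↥(Lv X i) := (π.comp H.subtype).codRestrict (Lv X i) hmem
  have hf1 : ∀ y : H, f y = 1 ↔ π (y : Y) = 1 := by
    intro y
    rw [← Subtype.coe_inj]; rfl
  have hfs : Function.Surjective f := by
    rintro ⟨y, hy⟩
    rw [← hmap] at hy
    obtain ⟨x, hx, hxy⟩ := hy
    exact ⟨⟨x, hx⟩, Subtype.ext hxy⟩
  have hgen : Subgroup.closure {x : H | ∃ k : ℕ, x ^ p ^ k = 1} = ⊤ := by
    set K := Subgroup.closure {x : H | ∃ k : ℕ, x ^ p ^ k = 1} with hK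
    have h1 : ∀ P : Subgroup G, lft p π P ≤ H → lft p π P ≤ K.map H.subtype := by
      intro P hP
      conv_lhs => unfold lft
      rw [Subgroup.closure_le]
      rintro y ⟨hy, k, hk⟩
      have hyH : y ∈ H := hP (Subgroup.subset_closure ⟨hy, k, hk⟩)
      exact ⟨⟨y, hyH⟩, Subgroup.subset_closure ⟨k, Subtype.ext hk⟩, rfl⟩
    have h2 : H ≤ K.map H.subtype := sup_le (h1 _ le_sup_left) (h1 _ le_sup_right)
    rw [eq_top_iff]
    intro x _
    obtain ⟨z, hz, hzx⟩ := h2 x.2
    have : z = x := Subtype.ext hzx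
    rwa [← this]
  have hkc : f.ker ≤ Subgroup.center H := by
    intro y hy
    rw [Subgroup.mem_center_iff]
    intro g
    exact Subtype.ext (Subgroup.mem_center_iff.1 (hf ((hf1 y).1 hy)) g)
  have hdvd : Nat.card f.ker ∣ Nat.card π.ker := by
    let g : f.ker →* π.ker :=
      { toFun := fun y => ⟨((y : H) : Y), (hf1 y.1).1 y.2⟩
        map_one' := rfl
        map_mul' := fun _ _ => rfl }
    exact Subgroup.card_dvd_of_injective g fun a b hab =>
      Subtype.ext (Subtype.ext (congrArg (fun z : π.ker => (z : Y)) hab))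
  have hone : Nat.card f.ker = 1 := by
    by_contra hne
    obtain ⟨r, hr, hrd⟩ := Nat.exists_prime_and_dvd hne
    have hrp : r ≠ p := by
      rintro rfl
      exact (Nat.Prime.coprime_iff_not_dvd hr).1 hp.symm (hrd.trans hdvd)
    exact noCE_not_dvd_card_ker hr (rk i r hr hrp) hgen hfs hkc hrd
  have h1 : f.ker = ⊥ := Subgroup.card_eq_one.1 hone
  have h2 : (⟨x, hx⟩ : H) ∈ f.ker := (hf1 _).2 hπ
  rw [h1, Subgroup.mem_bot] at h2
  exact congrArg Subtype.val h2

section

variable (hf : π.ker ≤ Subgroup.center Y) (hp : (Nat.card π.ker).Coprime p) (hs : Function.Surjective π)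
  (R : RGD cs h p T n X) (rk : ∀ i, ∀ r : ℕ, r.Prime → r ≠ p → NoCE p r ↥(Lv X i))
  (hG1 : G1 cs h (fun x => lft p π (X x)) = ⊤) (hT : ∀ s ∈ T, ∀ t ∈ T, s * t = t * s)
include hf hp hs R rk hG1 hT

theorem comap_comm : ∀ s ∈ T.comap π, ∀ t ∈ T.comap π, s * t = t * s := by
  obtain ⟨g, hg⟩ := hs.hasRightInverse
  have R' := rgd_lift hf hp hs R (n := fun i => g (n i)) (fun i => hg (n i))
  have hle := torus_le R' hG1
  intro s hs' t ht
  have h1 : TT (T.comap π) (fun x => lft p π (X x)) ≤ Subgroup.centralizer {s} := by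
    refine iSup_le fun i => ?_
    intro x hx
    have hxT := (Subgroup.mem_inf.1 hx).1
    have hxL := (Subgroup.mem_inf.1 hx).2
    have h2 : s * x * s⁻¹ * x⁻¹ ∈ Lv (fun x => lft p π (X x)) i := by
      refine mul_mem ?_ (inv_mem hxL)
      have h3 := cj_t_Lv R' hs' i
      rw [← h3]
      exact conj_mem_cj.2 hxL
    have h4 : s * x * s⁻¹ * x⁻¹ = 1 := by
      refine inf_ker_eq hf hp hs R rk i h2 ?_
      rw [map_mul, map_mul, map_mul, map_inv, map_inv, hT _ hs' _ hxT, mul_inv_cancel_right, mul_inv_cancel]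
    rw [Subgroup.mem_centralizer_singleton_iff]
    have h5 : s * x = (s * x * s⁻¹ * x⁻¹) * (x * s) := by group
    rw [h5, h4, one_mul]
  exact (Subgroup.mem_centralizer_singleton_iff.1 (h1 (hle ht))).symm

theorem comap_pow {Q : ℕ} (hQ : ∀ t ∈ T, t ^ Q = t) : ∀ t ∈ T.comap π, t ^ Q = t := by
  have hcomm := comap_comm hf hp hs R rk hG1 hT
  obtain ⟨g, hg⟩ := hs.hasRightInverse
  have R' := rgd_lift hf hp hs R (n := fun i => g (n i)) (fun i => hg (n i))
  have hle := torus_le R' hG1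
  let S : Subgroup Y :=
    { carrier := {t | t ∈ T.comap π ∧ t ^ Q = t}
      one_mem' := ⟨one_mem _, one_pow _⟩
      mul_mem' := by
        rintro a b ⟨ha, ha'⟩ ⟨hb, hb'⟩
        refine ⟨mul_mem ha hb, ?_⟩
        rw [(show Commute a b from hcomm a ha b hb).mul_pow, ha', hb']
      inv_mem' := by
        rintro a ⟨ha, ha'⟩
        exact ⟨inv_mem ha, by rw [inv_pow, ha']⟩ }
  have h1 : TT (T.comap π) (fun x => lft p π (X x)) ≤ S := by
    refine iSup_le fun i => ?_
    intro x hx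
    have hxT := (Subgroup.mem_inf.1 hx).1
    have hxL := (Subgroup.mem_inf.1 hx).2
    refine ⟨hxT, ?_⟩
    have h2 : x ^ Q * x⁻¹ = 1 := by
      refine inf_ker_eq hf hp hs R rk i (mul_mem (pow_mem hxL Q) (inv_mem hxL)) ?_
      rw [map_mul, map_pow, map_inv, hQ _ hxT, mul_inv_cancel]
    exact mul_inv_eq_one.1 h2
  exact fun t ht => (h1 (hle ht)).2

end

end Cfsg.Agent.H156.Ppd
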