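import Cfsg.Agent.H925.NatCover
import Cfsg.Agent.H905.MdG
import Cfsg.Agent.H156.Ppd.Torus

/-!
# The covering group of a core with a root group datum (helper156, TEAM PPD)

`P ≤ GL(ι, F)` a core, `Soc P ≃ T₀`, `𝔾 → T₀` surjective, `R` a root group datum of `𝔾`, perfect.

* `Cov` : `f : Y → 𝔾` a perfect central `p'`-extension, `φ : Y → GL(ι, F)` with image `P`; the root group datum of `Y`
  is lifted from `𝔾`; **`exists_cov`**;
* `Cov.hirr`, `Cov.hGG`, `Cov.hnt`;
* if the torus of `Y` is commutative: **`Cov.finrank_D`** : `dim V^U = 1` over `F`;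
* **`Cov.ident`** : if the module is natural at `o` then `P` is the group `ψ(𝔾)` up to a change of the basis.
-/

set_option autoImplicit false
set_option linter.unusedSectionVars false

namespace Cfsg.Agent.H156.Ppd

open CoxeterSystem Cfsg.Agent.ChevalleyStructure.CoxeterGeom Cfsg.Agent.Tits.Roots Cfsg.Agent.Tits.Core
  Cfsg.Agent.Tits.Exchange Cfsg.Agent.Nodes.Reps Cfsg.Agent.Nodes.BNOf Cfsg.Agent.Nodes.StabComb
  Cfsg.Agent.Nodes.Bruhat Cfsg.Agent.Nodes.OppDec Cfsg.Agent.Nodes.RGDLib Cfsg.Agent.Omega.CR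
  Cfsg.Agent.Omega.FOne.Lift.Sd Cfsg.Agent.H911 Cfsg.Agent.H905.Md Cfsg.Agent.Nodes.RGDLift Cfsg.Agent.H915.LD
  Cfsg.Agent.H925.Nat
open Cfsg Cfsg.Geo
open scoped MatrixGroups Matrix commutatorElement

universe u v w

section

variable {F : Type u} [Field F] {ι : Type} [Fintype ι] [DecidableEq ι]

/-- the matrix representation -/
def mrep {Y : Type*} [Group Y] (φ : Y →* GL ι F) : Y →* Matrix ι ι F := (Units.coeHom (Matrix ι ι F)).comp φ

theorem mrep_apply {Y : Type*} [Group Y] (φ : Y →* GL ι F) (y : Y) : mrep φ y = (φ y : Matrix ι ι F) := rfl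

/-- the linear representation -/
noncomputable abbrev lrep {Y : Type*} [Group Y] (φ : Y →* GL ι F) : Y →* Module.End F (ι → F) := lin (mrep φ)

end

/-- **The covering group.** -/
structure Cov {I W : Type} {𝔾 : Type v} {Y : Type w} {F : Type u} [Fintype I] [DecidableEq I] [Group W] [Group 𝔾] [Group Y]
    [Field F] {ι : Type} [Fintype ι] [DecidableEq ι] {M : CoxeterMatrix I}
    (cs : CoxeterSystem M W) {A : I → I → ℤ} (h : IsCartan M A) (p : ℕ) (T : Subgroup 𝔾) (n : I → 𝔾)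
    (X : (I → ℤ) → Subgroup 𝔾) (P : Subgroup (GL ι F)) (f : Y →* 𝔾) (φ : Y →* GL ι F) (n₁ : I → Y) : Prop where
  surj : Function.Surjective f
  ker : f.ker ≤ Subgroup.center Y
  cop : (Nat.card f.ker).Coprime p
  hn : ∀ i, f (n₁ i) = n i
  rgd : RGD cs h p (T.comap f) n₁ (fun x => lft p f (X x))
  gen : G1 cs h (fun x => lft p f (X x)) = ⊤
  range : φ.range = P

section exist

variable {F : Type u} [Field F] [Finite F] {ι : Type} [Fintype ι] [DecidableEq ι] {P : Subgroup (GL ι F)}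

theorem exists_cov (hC : Core P) {𝔾 : Type v} [Group 𝔾] [Finite 𝔾]
    {p : ℕ} [hp : Fact p.Prime] [hcF : CharP F p] {I W : Type}
    [Fintype I] [DecidableEq I] [Group W] [Finite W] {M : CoxeterMatrix I} {cs : CoxeterSystem M W} {A : I → I → ℤ}
    {h : IsCartan M A} {T : Subgroup 𝔾} {n : I → 𝔾} {X : (I → ℤ) → Subgroup 𝔾} (R : RGD cs h p T n X)
    (hG : G1 cs h X = ⊤) (hperf : commutator 𝔾 = ⊤) {T₀ : Type*} [Group T₀] {π : 𝔾 →* T₀}
    (hπ : Function.Surjective π) (Φ : Soc P ≃* T₀) :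
    ∃ (Y : Type (max u v)) (_ : Group Y) (_ : Finite Y) (f : Y →* 𝔾) (φ : Y →* GL ι F) (n₁ : I → Y),
      Cov cs h p T n X P f φ n₁ := by
  classical
  have hfin : Finite P := inferInstance
  have hne := hC.nonempty
  -- the fibre product
  let E : Subgroup (P × 𝔾) :=
    MonoidHom.eqLocus ((prj Φ).comp (MonoidHom.fst P 𝔾)) (π.comp (MonoidHom.snd P 𝔾))
  have hE : ∀ x : P × 𝔾, x ∈ E ↔ prj Φ x.1 = π x.2 := fun _ => Iff.rfl
  let f0 : E →* 𝔾 := (MonoidHom.snd P 𝔾).comp E.subtype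
  let g0 : E →* P := (MonoidHom.fst P 𝔾).comp E.subtype
  have hf0 : Function.Surjective f0 := by
    intro y
    obtain ⟨a, ha⟩ := prj_surjective Φ (π y)
    exact ⟨⟨(a, y), ha⟩, rfl⟩
  have hg0 : Function.Surjective g0 := by
    intro a
    obtain ⟨y, hy⟩ := hπ (prj Φ a)
    exact ⟨⟨(a, y), hy.symm⟩, rfl⟩
  have hker : ∀ x : E, f0 x = 1 → (x : P × 𝔾).1 ∈ (scalars ι F).subgroupOf P := by
    intro x hx
    have h1 : prj Φ (x : P × 𝔾).1 = π (x : P × 𝔾).2 := x.2
    have h2 : (x : P × 𝔾).2 = 1 := hx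
    rw [h2, map_one] at h1
    rw [← prj_ker Φ, MonoidHom.mem_ker]
    exact h1
  have hcen : f0.ker ≤ Subgroup.center E := by
    intro x hx
    rw [Subgroup.mem_center_iff]
    intro y
    have h1 := hker x hx
    have h2 : (x : P × 𝔾).2 = 1 := hx
    apply Subtype.ext
    apply Prod.ext
    · exact Subgroup.mem_center_iff.1 (subgroupOf_scalars_le P h1) _
    · change (y : P × 𝔾).2 * (x : P × 𝔾).2 = (x : P × 𝔾).2 * (y : P × 𝔾).2
      rw [h2, mul_one, one_mul]
  have hPc : commutator P = ⊤ := hC.commutator_top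
  -- the perfect extension
  have hY := commutator_commutator hf0 hcen hperf
  let f : ↥(commutator E) →* 𝔾 := f0.comp (commutator E).subtype
  let g : ↥(commutator E) →* P := g0.comp (commutator E).subtype
  have hf : Function.Surjective f := restr_surjective hf0 hperf
  have hg : Function.Surjective g := restr_surjective hg0 hPc
  have hfk : f.ker ≤ Subgroup.center ↥(commutator E) := by
    intro x hx
    rw [Subgroup.mem_center_iff]
    intro y
    have h1 : (x : E) ∈ f0.ker := hx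
    exact Subtype.ext (Subgroup.mem_center_iff.1 (hcen h1) y)
  have hfp : (Nat.card f.ker).Coprime p := by
    refine Nat.Coprime.coprime_dvd_left ?_ (card_scalars_coprime (p := p) P)
    refine Subgroup.card_dvd_of_injective ((g.comp f.ker.subtype).codRestrict ((scalars ι F).subgroupOf P)
      (fun x => hker _ x.2)) ?_
    intro x y e
    have e1 : ((x : ↥(commutator E)) : E).1.1 = ((y : ↥(commutator E)) : E).1.1 :=
      congrArg (fun z : (scalars ι F).subgroupOf P => (z : P)) e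
    have e2 : ((x : ↥(commutator E)) : E).1.2 = 1 := x.2
    have e3 : ((y : ↥(commutator E)) : E).1.2 = 1 := y.2
    exact Subtype.ext (Subtype.ext (Subtype.ext (Prod.ext e1 (e2.trans e3.symm))))
  obtain ⟨n₁, hn₁, R₁, hG₁⟩ := H905.DC.exists_rgd_lift hY hfk hfp hf R hG
  refine ⟨↥(commutator E), inferInstance, inferInstance, f, P.subtype.comp g, n₁, hf, hfk, hfp, hn₁, R₁, hG₁, ?_⟩
  rw [MonoidHom.range_comp, MonoidHom.range_eq_top.2 hg, ← MonoidHom.range_eq_map, Subgroup.range_subtype]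

end exist

namespace Cov

variable {I W : Type} {𝔾 : Type v} {Y : Type w} {F : Type u} [Fintype I] [DecidableEq I] [Group W] [Finite W] [Group 𝔾]
  [Group Y] [Finite Y] [Field F] [Finite F] {ι : Type} [Fintype ι] [DecidableEq ι] {M : CoxeterMatrix I}
  {cs : CoxeterSystem M W} {A : I → I → ℤ} {h : IsCartan M A} {p : ℕ} [hp : Fact p.Prime] [hcF : CharP F p]
  {T : Subgroup 𝔾} {n : I → 𝔾}
  {X : (I → ℤ) → Subgroup 𝔾} {P : Subgroup (GL ι F)} {f : Y →* 𝔾} {φ : Y →* GL ι F} {n₁ : I → Y}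
  (C : Cov cs h p T n X P f φ n₁)
include C

theorem hGG : GG cs h (T.comap f) (fun x => lft p f (X x)) = ⊤ := by
  rw [eq_top_iff, ← C.gen]
  exact le_sup_right

theorem exists_pre {g : GL ι F} (hg : g ∈ P) : ∃ y, φ y = g := by
  rw [← C.range] at hg
  exact hg

theorem mem (y : Y) : φ y ∈ P := by
  rw [← C.range]
  exact ⟨y, rfl⟩

theorem hirr (hC : Core P) (L : Submodule F (ι → F))
    (hL : Ivt (lrep φ) (GG cs h (T.comap f) (fun x => lft p f (X x))) L) : L = ⊥ ∨ L = ⊤ := by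
  refine hC.absIrred.1 L ?_
  rintro _ ⟨a, ha, rfl⟩ _ ⟨v, hv, rfl⟩
  obtain ⟨y, rfl⟩ := C.exists_pre ha
  have h1 := hL y (by rw [C.hGG]; trivial) v hv
  rw [lin_apply, mrep_apply] at h1
  rw [Matrix.toLin'_apply]
  exact h1

theorem hnt (hC : Core P) : ∃ (y : Y) (v : ι → F), lrep φ y v ≠ v := by
  by_contra hcon
  push Not at hcon
  apply hC.nonabelian
  have h1 : ∀ a : P, a = 1 := by
    rintro ⟨a, ha⟩
    obtain ⟨y, rfl⟩ := C.exists_pre ha
    apply Subtype.ext
    apply Units.ext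
    have h2 := hcon y
    apply Matrix.toLin'.injective
    ext1 i
    ext1
    simp only [LinearMap.comp_apply]
    have h3 := h2 (Pi.single i 1)
    rw [lin_apply, mrep_apply] at h3
    simpa using h3
  exact ⟨⟨fun x y => by
    induction x using QuotientGroup.induction_on with
    | H x =>
      induction y using QuotientGroup.induction_on with
      | H y => rw [h1 x, h1 y]⟩⟩

theorem nontriv (hC : Core P) : Nontrivial (ι → F) := by
  obtain ⟨y, v, hv⟩ := C.hnt hC
  exact nontrivial_of_ne _ _ hv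

/-- `fx` is defined over `F` -/
theorem finrank_D (hC : Core P) (hT : ∀ s ∈ T.comap f, ∀ t ∈ T.comap f, s * t = t * s) :
    Module.finrank F (D cs h (fun x => lft p f (X x)) (lrep φ)) = 1 := by
  have hne := hC.nonempty
  have hchar : CharP (AlgebraicClosure F) p := charP_of_injective_algebraMap (algebraMap F _).injective p
  have hirr := C.hirr hC
  have hirr' := ac_irr C.rgd C.hGG hT C.range hC.absIrred
  obtain ⟨c, hc, hc0, χ, hχ⟩ := exists_chi C.rgd hirr' hT
  have hspan := fx_eq_span C.rgd (lin (acRep φ)) hirr' hc hc0 hχ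
  have hnV := C.nontriv hC
  obtain ⟨w, hw, hw0⟩ := (Submodule.ne_bot_iff _).1 (simp_fx C.rgd (lrep φ) hirr).ne
  have hmap : ∀ (w : ι → F) (y : Y), lin (acRep φ) y (fun i => algebraMap F (AlgebraicClosure F) (w i)) =
      fun i => algebraMap F (AlgebraicClosure F) (((φ y : Matrix ι ι F) *ᵥ w) i) := by
    intro w y
    rw [lin_apply, acRep_apply]
    funext i
    exact (RingHom.map_mulVec (algebraMap F (AlgebraicClosure F)) (φ y : Matrix ι ι F) w i).symm
  have hin : ∀ w ∈ fx (lrep φ) (RGD.Sup (fun x => lft p f (X x)) (RGD.Pos cs h)),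
      ∃ a : AlgebraicClosure F, a • c = fun i => algebraMap F (AlgebraicClosure F) (w i) := by
    intro w hw
    have h1 : (fun i => algebraMap F (AlgebraicClosure F) (w i)) ∈
        fx (lin (acRep φ)) (RGD.Sup (fun x => lft p f (X x)) (RGD.Pos cs h)) := by
      intro u hu
      rw [hmap]
      have h2 : (φ u : Matrix ι ι F) *ᵥ w = w := hw u hu
      rw [h2]
    rw [hspan] at h1
    exact Submodule.mem_span_singleton.1 h1
  obtain ⟨a, ha⟩ := hin w hw
  obtain ⟨i, hi⟩ : ∃ i, w i ≠ 0 := by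
    by_contra hcon
    push Not at hcon
    exact hw0 (funext hcon)
  have hai := congrFun ha i
  have ha0 : a ≠ 0 := by
    rintro rfl
    rw [zero_smul] at hai
    exact hi ((map_eq_zero _).1 hai.symm)
  rw [finrank_eq_one_iff']
  refine ⟨⟨w, hw⟩, fun h0 => hw0 (congrArg Subtype.val h0), ?_⟩
  rintro ⟨w', hw'⟩
  obtain ⟨b, hb⟩ := hin w' hw'
  have hbi := congrFun hb i
  refine ⟨w' i / w i, Subtype.ext ?_⟩
  funext j
  have haj := congrFun ha j
  have hbj := congrFun hb j
  apply (algebraMap F (AlgebraicClosure F)).injective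
  change algebraMap F (AlgebraicClosure F) (w' i / w i * w j) = _
  simp only [Pi.smul_apply, smul_eq_mul] at hai hbi haj hbj
  have hci : c i ≠ 0 := by
    intro h0
    rw [h0, mul_zero] at hai
    exact hi ((map_eq_zero _).1 hai.symm)
  rw [map_mul, map_div₀, ← hai, ← hbi, ← haj, ← hbj]
  field_simp

/-- **The traces.** -/
theorem fr (hC : Core P) (hT : ∀ s ∈ T.comap f, ∀ t ∈ T.comap f, s * t = t * s) {a : ℕ}
    (ha : ∀ t ∈ T.comap f, t ^ p ^ a = t) : Fr P (p ^ a) := by
  have hne := hC.nonempty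
  intro g hg
  exact trace_pow C.rgd C.hGG hT C.range hC.absIrred ha hg

/-- **The order of the field.** -/
theorem exists_j (hC : Core P) (hT : ∀ s ∈ T.comap f, ∀ t ∈ T.comap f, s * t = t * s) {a : ℕ} (ha0 : a ≠ 0)
    (ha : ∀ t ∈ T.comap f, t ^ p ^ a = t) : ∃ j, 1 ≤ j ∧ Nat.card F ^ j = p ^ a := by
  refine card_pow_eq p ha0 ?_
  exact pow_eq_of_no_subfield hC.absIrred hC.no_subfield p a (fun g hg => C.fr hC hT ha g hg)

/-- **The identification.** -/
theorem ident (hC : Core P) [Finite 𝔾] {K : Type*} [Field K] [Finite K] [hcK : CharP K p]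
    {ν : Type*} [Fintype ν] [DecidableEq ν]
    {ψ : 𝔾 →* Matrix ν ν K} (hsN : Submodule.span K (Set.range ψ) = ⊤) {o : I} {b : ν → K}
    (HN : NatAt T n X (lin ψ) o b) (hbU : b ∈ fx (lin ψ) (RGD.Sup X (RGD.Pos cs h)))
    (hsurj : ∀ a : K, ∃ x ∈ X (sr o), lin ψ x (lin ψ (n o) b) = lin ψ (n o) b + a • b)
    (R : RGD cs h p T n X)
    (hJ : ∀ i, i ∈ Jx cs h (fun x => lft p f (X x)) (lrep φ) ↔ i ≠ o)
    (hD : Module.finrank F (D cs h (fun x => lft p f (X x)) (lrep φ)) = 1)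
    (hL : Module.finrank F (Le cs h (T.comap f) (fun x => lft p f (X x)) (lrep φ) {o}) ≤ 2) :
    ∃ (σ : K →+* F) (θ : (ν → F) ≃ₗ[F] (ι → F)), ∀ A : GL ι F,
      A ∈ P ↔ ∃ g : 𝔾, ∀ v, θ (((ψ g).map σ) *ᵥ v) = (A : Matrix ι ι F) *ᵥ θ v := by
  classical
  have HN₁ := HN.comap (p := p) (f := f) C.hn
  have hb₁ : b ∈ fx (lin (ψ.comp f)) (RGD.Sup (fun x => lft p f (X x)) (RGD.Pos cs h)) := by
    intro x hx
    exact hbU _ (map_Sup_lft_le f _ (Subgroup.mem_map_of_mem f hx))
  have hs₁ : ∀ a : K, ∃ x ∈ lft p f (X (sr o)), lin (ψ.comp f) x (lin (ψ.comp f) (n₁ o) b) =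
      lin (ψ.comp f) (n₁ o) b + a • b := by
    intro a
    obtain ⟨x, hx, e⟩ := hsurj a
    have h1 : x ∈ (lft p f (X (sr o))).map f := by rw [map_lft C.ker C.cop C.surj (R.pgrp o)]; exact hx
    obtain ⟨y, hy, rfl⟩ := h1
    refine ⟨y, hy, ?_⟩
    rw [← C.hn o] at e
    exact e
  have hsp₁ : Submodule.span K (Set.range (ψ.comp f)) = ⊤ := by
    rw [← hsN]
    congr 1
    ext m
    constructor
    · rintro ⟨y, rfl⟩
      exact ⟨f y, rfl⟩
    · rintro ⟨y, rfl⟩
      obtain ⟨z, rfl⟩ := C.surj y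
      exact ⟨z, rfl⟩
  have hirr := C.hirr hC
  have hnV := C.nontriv hC
  obtain ⟨⟨c, hcD⟩, hc0, hc1⟩ := finrank_eq_one_iff'.1 hD
  have hc0' : c ≠ 0 := fun h0 => hc0 (Subtype.ext h0)
  have hDs : D cs h (fun x => lft p f (X x)) (lrep φ) = Submodule.span F {c} := by
    apply le_antisymm
    · intro v hv
      obtain ⟨a, ha⟩ := hc1 ⟨v, hv⟩
      rw [Submodule.mem_span_singleton]
      exact ⟨a, congrArg Subtype.val ha⟩
    · rw [Submodule.span_singleton_le_iff_mem]
      exact hcD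
  have HV := natAt_of_dim C.rgd hirr hc0' hDs hJ hL
  have hp2 : (2 : F) ≠ 0 ∨ ∀ a : K, ∃ c, c * c = a := by
    by_cases h2 : (2 : F) = 0
    · right
      have hch : CharP F 2 := CharTwo.of_one_ne_zero_of_two_eq_zero one_ne_zero h2
      have hp2 : p = 2 := CharP.eq F hcF hch
      subst hp2
      intro a
      have h4 : Function.Injective (frobenius K 2) := frobenius_inj K 2
      obtain ⟨c, hc⟩ := (Finite.injective_iff_surjective.1 h4) a
      rw [frobenius_def, pow_two] at hc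
      exact ⟨c, hc⟩
    · exact Or.inl h2
  obtain ⟨σ, θ, hθ⟩ := nat_iso C.rgd C.gen hsp₁ hirr HN₁ HV hb₁ hcD hs₁ hp2
  refine ⟨σ, θ, fun A => ⟨fun hA => ?_, fun ⟨y, hy⟩ => ?_⟩⟩
  · obtain ⟨y, rfl⟩ := C.exists_pre hA
    refine ⟨f y, fun v => ?_⟩
    exact hθ y v
  · obtain ⟨z, rfl⟩ := C.surj y
    have h1 : A = φ z := by
      apply Units.ext
      apply Matrix.toLin'.injective
      refine LinearMap.ext fun w => ?_
      obtain ⟨v, rfl⟩ := θ.surjective w
      rw [Matrix.toLin'_apply, Matrix.toLin'_apply, ← hy v, ← mrep_apply, ← hθ z v]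
      rfl
    rw [h1]
    exact C.mem z

end Cov

end Cfsg.Agent.H156.Ppd
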