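import Cfsg.Agent.H156.Ppd.DSg

/-!
# Lower bounds for modules of type `D_l`, `l = n + 2` (helper156, TEAM PPD)

`i ∉ J`, `δ = dim V^U`, `c = dim Io i` (the interior of an edge of type `i`).

* `dim_V` : `1 ≤ i < n`: `4 C(l, i + 1) δ + 2 C(l, 2) c ≤ dim V`;
* `dim_H` : `n ≤ i`: `2 ^ (l - 1) δ + 2 C(l, 2) c ≤ dim V`;
* `dim_O` : `i = 0`: `2 l δ + 4 C(l, 2) c ≤ dim V`.
-/

set_option autoImplicit false
set_option linter.unusedSectionVars false
set_option linter.unusedSimpArgs false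

namespace Cfsg.Agent.H156.Ppd.DSg

open CoxeterSystem Cfsg.Agent.ChevalleyStructure.CoxeterGeom Cfsg.Agent.Tits.Roots Cfsg.Agent.Tits.Core
  Cfsg.Agent.Tits.Exchange Cfsg.Agent.Nodes.Reps Cfsg.Agent.Nodes.BNOf Cfsg.Agent.Nodes.StabComb
  Cfsg.Agent.Nodes.Bruhat Cfsg.Agent.Nodes.OppDec Cfsg.Agent.Nodes.LeviDec Cfsg.Agent.KFacts.RgdOpp
  Cfsg.Agent.Omega.CR Cfsg.Agent.Omega.FOne.Lift.Sd Cfsg.Agent.H905.Md Cfsg.Agent.Nodes.TypeD
open Cfsg.Agent.Nodes.TypeC (wt ng wt_apply wt_ng ng_ng ng_fst ng_snd wt_injective)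

variable {n : ℕ}

section comb

variable {W : Type*} [Group W] {cs : CoxeterSystem (Nodes.TypeD.M n) W}

theorem ee_edge {w : W} {π : Equiv.Perm (Fin (n + 2) × Bool)} (hw : Act cs w π) (i : Fin (n + 2)) :
    ee (rep cs (isCartan n) w (sr i)) = wt (π (i, true)) + wt (π (nx i)) := by
  rw [hw.2, ee_sr]
  unfold bt
  rw [Lp_add, Lp_wt hw.1, Lp_wt hw.1]

/-- ordered pairs of indices with a sign -/
abbrev Pr (l : ℕ) := {q : Fin l × Fin l // q.1 < q.2} × Bool

theorem exists_edge (hn : 1 ≤ n) (i : Fin (n + 2)) (q : Pr (n + 2)) :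
    ∃ (w : W) (π : Equiv.Perm (Fin (n + 2) × Bool)), Act cs w π ∧ π (i, true) = (q.1.1.1, true) ∧
      π (nx i) = (q.1.1.2, q.2) :=
  exists_two' hn (ok_nx i) (ne_of_lt q.1.2)

/-- different pairs give different edges -/
theorem edge_sep {J : Set (Fin (n + 2))} {i : Fin (n + 2)} {w w' : W} {π π' : Equiv.Perm (Fin (n + 2) × Bool)}
    (hw : Act cs w π) (hw' : Act cs w' π') {q q' : Pr (n + 2)} (h1 : π (i, true) = (q.1.1.1, true))
    (h2 : π (nx i) = (q.1.1.2, q.2)) (h1' : π' (i, true) = (q'.1.1.1, true)) (h2' : π' (nx i) = (q'.1.1.2, q'.2))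
    (he : SameEdge cs (isCartan n) J w i w' i) : q = q' := by
  have e1 := ee_edge hw i
  have e2 := ee_edge hw' i
  rw [h1, h2] at e1
  rw [h1', h2'] at e2
  have hq := q.1.2
  have hq' := q'.1.2
  obtain ⟨⟨⟨a, b⟩, hab⟩, s⟩ := q
  obtain ⟨⟨⟨a', b'⟩, hab'⟩, s'⟩ := q'
  simp only at *
  rcases he with ⟨h3, -⟩ | ⟨h3, -⟩
  · rw [h3, e2] at e1
    rcases wt_add_eq (a := (a', true)) (b := (b', s')) (c := (a, true)) (d := (b, s)) (ne_of_lt hab')
      (ne_of_lt hab) e1 with ⟨h4, h5⟩ | ⟨h4, h5⟩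
    · rw [Prod.mk.injEq] at h4 h5
      obtain ⟨rfl, -⟩ := h4
      obtain ⟨rfl, rfl⟩ := h5
      rfl
    · rw [Prod.mk.injEq] at h4 h5
      obtain ⟨rfl, -⟩ := h4
      obtain ⟨rfl, -⟩ := h5
      exact absurd hab (not_lt_of_gt hab')
  · rw [h3, ee_neg, e2, neg_add, ← wt_ng, ← wt_ng] at e1
    rcases wt_add_eq (a := ng (a', true)) (b := ng (b', s')) (c := (a, true)) (d := (b, s)) (ne_of_lt hab')
      (ne_of_lt hab) e1 with ⟨h4, h5⟩ | ⟨h4, h5⟩
    · rw [ng, Prod.mk.injEq] at h4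
      exact absurd h4.2 (by simp)
    · rw [ng, Prod.mk.injEq] at h4 h5
      obtain ⟨rfl, -⟩ := h4
      obtain ⟨rfl, -⟩ := h5
      exact absurd hab (not_lt_of_gt hab')

theorem card_Pr (l : ℕ) : Fintype.card (Pr l) = l.choose 2 * 2 := by
  rw [Fintype.card_prod, card_pairs, Fintype.card_bool]

/-- the value of `sep` for `fl B * pe σ` -/
theorem inv_apply (B : Finset (Fin (n + 2))) (σ : Equiv.Perm (Fin (n + 2))) (c : Fin (n + 2)) :
    (fl B * pe σ)⁻¹ (c, true) = (σ⁻¹ c, !(decide (c ∈ B))) := by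
  rw [mul_inv_rev, Equiv.Perm.mul_apply, fl_inv, fl_apply]
  change (pe σ).symm _ = _
  rw [Equiv.symm_apply_eq, pe_apply]
  simp

end comb

section bounds

variable {W Y : Type*} [Group W] [Group Y] {cs : CoxeterSystem (Nodes.TypeD.M n) W} {p : ℕ} {T : Subgroup Y}
  {m : Fin (n + 2) → Y} {X : (Fin (n + 2) → ℤ) → Subgroup Y} {k V : Type*} [Field k] [AddCommGroup V] [Module k V]
  (R : RGD cs (isCartan n) p T m X) [Finite Y] [Finite W] [Fact p.Prime] [CharP k p]
  {ρ : Y →* Module.End k V} [FiniteDimensional k V] [Nontrivial V]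
  (hirr : ∀ L : Submodule k V, Ivt ρ (GG cs (isCartan n) T X) L → L = ⊥ ∨ L = ⊤)
include R hirr

theorem dim_E (hn : 1 ≤ n) (i : Fin (n + 2)) {α : Type*} [Fintype α] (v : α → W)
    (hv : ∀ a a', a ≠ a' → (v a)⁻¹ * v a' ∉ WJ cs (Jx cs (isCartan n) X ρ)) :
    Fintype.card α * Module.finrank k (D cs (isCartan n) X ρ) +
      ((n + 2).choose 2 * 2) * Module.finrank k (Io cs (isCartan n) T X ρ i) ≤ Module.finrank k V := by
  choose w π hw h1 h2 using exists_edge (cs := cs) hn i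
  have h3 := dim_ge R hirr (α := α) (β := Pr (n + 2)) v hv w (fun _ => i) (fun q q' hqq he =>
    hqq (edge_sep (hw q) (hw q') (h1 q) (h2 q) (h1 q') (h2 q') he))
  rw [Finset.sum_const, Finset.card_univ, card_Pr, smul_eq_mul] at h3
  exact h3

/-- **the nodes in the middle** -/
theorem dim_V {i : Fin (n + 2)} (hi : i ∉ Jx cs (isCartan n) X ρ) (h1i : 1 ≤ (i : ℕ)) (hin : (i : ℕ) < n) :
    ((n + 2).choose ((i : ℕ) + 1) * 4) * Module.finrank k (D cs (isCartan n) X ρ) +
      ((n + 2).choose 2 * 2) * Module.finrank k (Io cs (isCartan n) T X ρ i) ≤ Module.finrank k V := by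
  classical
  have hS : ∀ S : {S : Finset (Fin (n + 2)) // S.card = (i : ℕ) + 1}, ∃ (σ : Equiv.Perm (Fin (n + 2)))
      (u v z : Fin (n + 2)), (∀ a, (σ⁻¹ a).val ≤ i.val ↔ a ∈ S.1) ∧ u ∈ S.1 ∧ v ∈ S.1 ∧ u ≠ v ∧ z ∉ S.1 := by
    intro S
    obtain ⟨σ, hσ⟩ := exists_perm_set (⟨i, by omega⟩ : Fin (n + 1)) S.1 S.2
    obtain ⟨u, hu, v, hv, huv⟩ := Finset.one_lt_card.1 (show 1 < S.1.card by rw [S.2]; omega)
    obtain ⟨z, hz⟩ : ∃ z : Fin (n + 2), z ∉ S.1 := by
      by_contra hcon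
      push Not at hcon
      have h3 := Finset.card_le_card (fun z _ => hcon z : (Finset.univ : Finset (Fin (n + 2))) ⊆ S.1)
      rw [Finset.card_univ, Fintype.card_fin, S.2] at h3
      omega
    exact ⟨σ, u, v, z, hσ, hu, hv, huv, hz⟩
  choose σ u v z hσ hu hv huv hz using hS
  have hw0 : ∀ q : {S : Finset (Fin (n + 2)) // S.card = (i : ℕ) + 1} × Bool × Bool,
      ∃ (w : W) (B : Finset (Fin (n + 2))), Act cs w (fl B * pe (σ q.1)) ∧
        ∀ b ∈ q.1.1, (b ∈ B ↔ (b = u q.1 ∧ q.2.1 = true) ∨ (b = v q.1 ∧ q.2.2 = true)) := by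
    intro q
    obtain ⟨w, B, hw, hB⟩ := exists_flip (cs := cs) (z q.1)
      ((if q.2.1 then {u q.1} else ∅) ∪ (if q.2.2 then {v q.1} else ∅))
    obtain ⟨w', hw'⟩ := exists_perm (cs := cs) (σ q.1)
    refine ⟨w * w', B, hw.mul hw', fun b hb => ?_⟩
    rw [hB b (fun e => hz q.1 (e ▸ hb)), Finset.mem_union]
    obtain ⟨S, s, t⟩ := q
    cases s <;> cases t <;> simp
  choose w B hw hB using hw0
  have hval : ∀ q c, bs ((fl (B q) * pe (σ q.1))⁻¹ (c, true)).2 * Cc i ((fl (B q) * pe (σ q.1))⁻¹ (c, true)).1 =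
      if c ∈ q.1.1 then (if c ∈ B q then -1 else 1) else 0 := by
    intro q c
    rw [inv_apply]
    simp only [Cc, if_pos hin, bs, Fin.le_def, hσ]
    by_cases h1 : c ∈ q.1.1 <;> by_cases h2 : c ∈ B q <;> simp [h1, h2]
  have h3 := dim_E R hirr (by omega) i w (by
    intro q q' hqq hmem
    apply hqq
    have hs := fun c => sep hi (hw q) (hw q') hmem (c, true)
    simp only [hval] at hs
    have hS : q.1 = q'.1 := by
      apply Subtype.ext
      ext c
      have := hs c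
      by_cases h1 : c ∈ q.1.1 <;> by_cases h2 : c ∈ q'.1.1 <;> simp only [h1, h2, if_true, if_false] at this ⊢ <;>
        split_ifs at this <;> omega
    obtain ⟨S, s, t⟩ := q
    obtain ⟨S', s', t'⟩ := q'
    obtain rfl : S = S' := hS
    have h4 := hs (u S)
    have h5 := hs (v S)
    have h6 := hB (S, s, t) (u S) (hu S)
    have h7 := hB (S, s', t') (u S) (hu S)
    have h8 := hB (S, s, t) (v S) (hv S)
    have h9 := hB (S, s', t') (v S) (hv S)
    have huS := hu S
    have hvS := hv S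
    have hne := huv S
    have hne' := (huv S).symm
    simp only [h6, h7, huS, if_true, hne, false_and, or_false, true_and] at h4
    simp only [h8, h9, hvS, if_true, hne', false_and, false_or, true_and] at h5
    have hs1 : s = s' := by cases s <;> cases s' <;> simp at h4 ⊢
    have ht1 : t = t' := by cases t <;> cases t' <;> simp at h5 ⊢
    rw [hs1, ht1])
  have hc : Fintype.card ({S : Finset (Fin (n + 2)) // S.card = (i : ℕ) + 1} × Bool × Bool) =
      (n + 2).choose ((i : ℕ) + 1) * 4 := by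
    rw [Fintype.card_prod, Fintype.card_prod, Fintype.card_bool, Fintype.card_finset_len, Fintype.card_fin]
  rwa [hc] at h3

/-- **the half-spin nodes** -/
theorem dim_H (hn : 1 ≤ n) {i : Fin (n + 2)} (hi : i ∉ Jx cs (isCartan n) X ρ) (hin : n ≤ (i : ℕ)) :
    2 ^ (n + 1) * Module.finrank k (D cs (isCartan n) X ρ) +
      ((n + 2).choose 2 * 2) * Module.finrank k (Io cs (isCartan n) T X ρ i) ≤ Module.finrank k V := by
  classical
  have hw0 : ∀ S : Finset (Fin (n + 1)), ∃ (w : W) (B : Finset (Fin (n + 2))), Act cs w (fl B) ∧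
      ∀ b : Fin (n + 1), b.castSucc ∈ B ↔ b ∈ S := by
    intro S
    obtain ⟨w, B, hw, hB⟩ := exists_flip (cs := cs) (Fin.last (n + 1)) (S.map Fin.castSuccEmb)
    refine ⟨w, B, hw, fun b => ?_⟩
    rw [hB _ (Fin.castSucc_lt_last b).ne]
    simp
  choose w B hw hB using hw0
  have h3 := dim_E R hirr hn i w (by
    intro S S' hSS hmem
    apply hSS
    ext b
    have hs := sep hi (hw S) (hw S') hmem (b.castSucc, true)
    rw [fl_inv, fl_inv, fl_apply, fl_apply] at hs
    have hb := b.2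
    have hc : Cc i b.castSucc = 1 := by
      unfold Cc
      rw [if_neg (by omega)]
      simp only [Fin.val_castSucc]
      split_ifs <;> first | rfl | omega
    simp only [hc, mul_one, hB, bs] at hs
    by_cases h1 : b ∈ S <;> by_cases h2 : b ∈ S' <;> simp [h1, h2] at hs ⊢)
  rwa [Fintype.card_finset, Fintype.card_fin] at h3

/-- **the first node** -/
theorem dim_O (hn : 1 ≤ n) (hi : (0 : Fin (n + 2)) ∉ Jx cs (isCartan n) X ρ) :
    (2 * (n + 2)) * Module.finrank k (D cs (isCartan n) X ρ) +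
      ((n + 2).choose 2 * 4) * Module.finrank k (Io cs (isCartan n) T X ρ 0) ≤ Module.finrank k V := by
  classical
  have hv0 : ∀ x : Fin (n + 2) × Bool, ∃ (w : W) (π : Equiv.Perm (Fin (n + 2) × Bool)), Act cs w π ∧
      π (0, true) = x := by
    intro x
    obtain ⟨y, hy⟩ : ∃ y : Fin (n + 2), x.1 ≠ y := by
      by_cases h : x.1 = 0
      · exact ⟨Fin.last (n + 1), by rw [h]; simp [Fin.ext_iff]⟩
      · exact ⟨0, h⟩
    obtain ⟨w, π, hw, h1, -⟩ := exists_two (cs := cs) hn (x := x) (y := (y, true)) hy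
    exact ⟨w, π, hw, h1⟩
  choose v πv hv hv1 using hv0
  have hCc : ∀ b : Fin (n + 2) × Bool, bs b.2 * Cc 0 b.1 = 1 → b = (0, true) := by
    intro b hb
    obtain ⟨a, s⟩ := b
    have h0 : ((0 : Fin (n + 2)) : ℕ) < n := by simp; omega
    simp only [Cc, if_pos h0, bs] at hb
    by_cases ha : a ≤ 0
    · have ha' : a = 0 := by
        apply Fin.ext
        have := Fin.le_def.1 ha
        simpa using this
      subst ha'
      cases s
      · simp at hb
      · rfl
    · rw [if_neg ha] at hb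
      simp at hb
  have hC0 : bs true * Cc (0 : Fin (n + 2)) 0 = 1 := by
    have h0 : ((0 : Fin (n + 2)) : ℕ) < n := by simp; omega
    simp only [Cc, if_pos h0, bs]
    simp
  have hw0 : ∀ q : {q : Fin (n + 2) × Fin (n + 2) // q.1 < q.2} × Bool × Bool,
      ∃ (w : W) (π : Equiv.Perm (Fin (n + 2) × Bool)), Act cs w π ∧ π (0, true) = (q.1.1.1, q.2.1) ∧
        π (1, true) = (q.1.1.2, q.2.2) := by
    intro q
    exact exists_two (cs := cs) hn (x := (q.1.1.1, q.2.1)) (y := (q.1.1.2, q.2.2)) (ne_of_lt q.1.2)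
  choose w π hw hw1 hw2 using hw0
  have hnx : nx (0 : Fin (n + 2)) = ng (1, true) := by
    unfold nx ng
    rw [dif_pos (by simp)]
    rfl
  have hnx' : ∀ q, π q (nx 0) = (q.1.1.2, !q.2.2) := by
    intro q
    rw [hnx, (hw q).1, hw2]
    rfl
  have hsg : sg (0 : Fin (n + 2)) (0, true) = (1, true) := by
    have h0 : ((0 : Fin (n + 2)) : ℕ) + 1 < n + 2 := by simp
    rw [sg_up h0]
    rfl
  have h3 := dim_ge R hirr (α := Fin (n + 2) × Bool)
    (β := {q : Fin (n + 2) × Fin (n + 2) // q.1 < q.2} × Bool × Bool) v (by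
    intro x x' hxx hmem
    apply hxx
    have hs := sep hi (hv x) (hv x') hmem x
    have h1 : (πv x)⁻¹ x = (0, true) := by
      change (πv x).symm x = _
      rw [Equiv.symm_apply_eq, hv1]
    rw [h1, hC0] at hs
    have h2 := hCc _ hs.symm
    have h4 : (πv x').symm x = (0, true) := h2
    rw [Equiv.symm_apply_eq, hv1] at h4
    exact h4) w (fun _ => 0) (by
    intro q q' hqq he
    apply hqq
    have e1 := ee_edge (hw q) 0
    have e2 := ee_edge (hw q') 0
    rw [hw1, hnx'] at e1 e2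
    have hq2 := hw2 q
    have hq2' := hw2 q'
    have hq1 := hw1 q
    have hq1' := hw1 q'
    have hwq := hw q
    have hwq' := hw q'
    generalize w q = wq at *
    generalize w q' = wq' at *
    generalize π q = πq at *
    generalize π q' = πq' at *
    obtain ⟨⟨⟨a, b⟩, hab⟩, s, t⟩ := q
    obtain ⟨⟨⟨a', b'⟩, hab'⟩, s', t'⟩ := q'
    simp only at *
    rcases he with ⟨h3, -⟩ | ⟨h3, h4⟩
    · rw [h3, e2] at e1
      rcases wt_add_eq (a := (a', s')) (b := (b', !t')) (c := (a, s)) (d := (b, !t)) (ne_of_lt hab')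
        (ne_of_lt hab) e1 with ⟨h4, h5⟩ | ⟨h4, h5⟩
      · rw [Prod.mk.injEq] at h4 h5
        obtain ⟨rfl, rfl⟩ := h4
        obtain ⟨rfl, h6⟩ := h5
        have h7 : t = t' := by cases t <;> cases t' <;> simp at h6 ⊢
        rw [h7]
      · rw [Prod.mk.injEq] at h4 h5
        obtain ⟨rfl, -⟩ := h4
        obtain ⟨rfl, -⟩ := h5
        exact absurd hab (not_lt_of_gt hab')
    · exfalso
      rw [h3, ee_neg, e2, neg_add, ← wt_ng, ← wt_ng] at e1
      have hbb : b' = b ∨ (b' = a ∧ a' = b) := by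
        rcases wt_add_eq (a := ng (a', s')) (b := ng (b', !t')) (c := (a, s)) (d := (b, !t)) (ne_of_lt hab')
          (ne_of_lt hab) e1 with ⟨h5, h6⟩ | ⟨h5, h6⟩
        · rw [ng, Prod.mk.injEq] at h6
          exact Or.inl h6.1
        · rw [ng, Prod.mk.injEq] at h5 h6
          exact Or.inr ⟨h6.1, h5.1⟩
      rcases hbb with hbb | ⟨hb1, hb2⟩
      · have hs := sep hi hwq (hwq'.mul (act_simple 0)) h4 (a, s)
        have h1 : πq⁻¹ (a, s) = (0, true) := by
          change πq.symm (a, s) = _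
          rw [Equiv.symm_apply_eq, hq1]
        rw [h1, hC0] at hs
        have h5 := hCc _ hs.symm
        have h6 : (πq' * sgE 0).symm (a, s) = (0, true) := h5
        rw [Equiv.symm_apply_eq, Equiv.Perm.mul_apply, sgE_apply, hsg, hq2', Prod.mk.injEq] at h6
        rw [h6.1, hbb] at hab
        exact lt_irrefl _ hab
      · rw [hb1, hb2] at hab'
        exact absurd hab (not_lt_of_gt hab'))
  have hc1 : Fintype.card (Fin (n + 2) × Bool) = 2 * (n + 2) := by
    rw [Fintype.card_prod, Fintype.card_fin, Fintype.card_bool, mul_comm]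
  have hc2 : Fintype.card ({q : Fin (n + 2) × Fin (n + 2) // q.1 < q.2} × Bool × Bool) = (n + 2).choose 2 * 4 := by
    rw [Fintype.card_prod, Fintype.card_prod, card_pairs, Fintype.card_bool]
  rw [Finset.sum_const, Finset.card_univ, hc1, hc2, smul_eq_mul] at h3
  exact h3

end bounds

end Cfsg.Agent.H156.Ppd.DSg
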