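import Cfsg.Agent.Nodes.TypeD
import Cfsg.Agent.H905.MdF

/-!
# The Weyl group of type `D_{n+2}` as signed permutations (helper156, TEAM PPD)

* `Act w π` : `w` acts on the signed indices as `π`;
* `exists_perm`, `exists_flip` : permutations, sign changes (up to the sign of one index);
* `exists_two` : transitivity on pairs of signed indices;
* `Cc i k`, `sep` : cosets of `W_J`, `i ∉ J`, are separated by `± Cc i`.
-/

set_option autoImplicit false
set_option linter.unusedSectionVars false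
set_option linter.unusedSimpArgs false

namespace Cfsg.Agent.H156.Ppd.DSg

open CoxeterSystem Cfsg.Agent.ChevalleyStructure.CoxeterGeom Cfsg.Agent.Tits.Roots Cfsg.Agent.Tits.Core
  Cfsg.Agent.Nodes.TypeD Cfsg.Agent.H905.Md
open Cfsg.Agent.Nodes.TypeC (wt ng wt_apply wt_ng ng_ng ng_fst ng_snd wt_injective)

variable {n : ℕ}

/-- the linear extension of a map of signed indices -/
def Lp (π : Fin (n + 2) × Bool → Fin (n + 2) × Bool) (u : Fin (n + 2) → ℤ) : Fin (n + 2) → ℤ :=
  ∑ k, u k • wt (π (k, true))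

theorem Lp_add (π : Fin (n + 2) × Bool → Fin (n + 2) × Bool) (u v : Fin (n + 2) → ℤ) :
    Lp π (u + v) = Lp π u + Lp π v := by
  simp only [Lp, Pi.add_apply, add_smul, Finset.sum_add_distrib]

theorem Lp_smul (π : Fin (n + 2) × Bool → Fin (n + 2) × Bool) (c : ℤ) (u : Fin (n + 2) → ℤ) :
    Lp π (c • u) = c • Lp π u := by
  simp only [Lp, Pi.smul_apply, smul_eq_mul, mul_smul, Finset.smul_sum]

theorem Lp_sum (π : Fin (n + 2) × Bool → Fin (n + 2) × Bool) (f : Fin (n + 2) → Fin (n + 2) → ℤ) :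
    Lp π (∑ k, f k) = ∑ k, Lp π (f k) := by
  simp only [Lp, Finset.sum_apply, Finset.sum_smul]
  exact Finset.sum_comm

theorem Lp_wt {π : Fin (n + 2) × Bool → Fin (n + 2) × Bool} (hπ : ∀ x, π (ng x) = ng (π x))
    (y : Fin (n + 2) × Bool) : Lp π (wt y) = wt (π y) := by
  obtain ⟨j, s⟩ := y
  unfold Lp
  rw [Finset.sum_eq_single j]
  · rw [wt_apply, if_pos rfl]
    cases s
    · have h1 : ((j, false) : Fin (n + 2) × Bool) = ng (j, true) := rfl
      rw [h1, hπ, wt_ng]
      simp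
    · simp
  · intro k _ hk
    rw [wt_apply, if_neg hk, zero_smul]
  · intro h
    exact absurd (Finset.mem_univ j) h

theorem Lp_id (u : Fin (n + 2) → ℤ) : Lp id u = u := by
  funext m
  unfold Lp
  rw [Finset.sum_apply, Finset.sum_eq_single m]
  · simp [wt_apply]
  · intro k _ hk
    simp [wt_apply, Ne.symm hk]
  · intro h
    exact absurd (Finset.mem_univ m) h

section

variable {W : Type*} [Group W] (cs : CoxeterSystem (M n) W)

/-- `w` acts on the signed indices as `π` -/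
def Act (w : W) (π : Equiv.Perm (Fin (n + 2) × Bool)) : Prop :=
  (∀ x, π (ng x) = ng (π x)) ∧ ∀ x : Fin (n + 2) → ℤ, ee (rep cs (isCartan n) w x) = Lp π (ee x)

variable {cs}

theorem Act.one : Act cs 1 1 :=
  ⟨fun _ => rfl, fun x => by rw [map_one, Module.End.one_apply]; exact (Lp_id _).symm⟩

theorem Lp_Lp {π ρ : Fin (n + 2) × Bool → Fin (n + 2) × Bool} (hπ : ∀ x, π (ng x) = ng (π x)) (u : Fin (n + 2) → ℤ) :
    Lp π (Lp ρ u) = Lp (π ∘ ρ) u := by
  conv_lhs => unfold Lp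
  change Lp π (∑ k, u k • wt (ρ (k, true))) = _
  rw [Lp_sum]
  unfold Lp
  refine Finset.sum_congr rfl fun k _ => ?_
  change Lp π (u k • wt (ρ (k, true))) = _
  rw [Lp_smul, Lp_wt hπ]
  rfl

theorem Act.mul {v w : W} {π ρ : Equiv.Perm (Fin (n + 2) × Bool)} (hv : Act cs v π) (hw : Act cs w ρ) :
    Act cs (v * w) (π * ρ) := by
  refine ⟨fun x => ?_, fun x => ?_⟩
  · rw [Equiv.Perm.mul_apply, Equiv.Perm.mul_apply, hw.1, hv.1]
  · rw [rep_mul_apply, hv.2, hw.2, Lp_Lp hv.1]
    rfl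

theorem Act.inv {w : W} {π : Equiv.Perm (Fin (n + 2) × Bool)} (hw : Act cs w π) : Act cs w⁻¹ π⁻¹ := by
  have h1 : ∀ x, π⁻¹ (ng x) = ng (π⁻¹ x) := by
    intro x
    apply π.injective
    rw [hw.1]
    simp
  refine ⟨h1, fun x => ?_⟩
  have h2 : ee x = Lp π (ee (rep cs (isCartan n) w⁻¹ x)) := by
    rw [← hw.2, rep_apply_inv]
  rw [h2, Lp_Lp h1]
  have h3 : (⇑π⁻¹ ∘ ⇑π : Fin (n + 2) × Bool → Fin (n + 2) × Bool) = id := by
    funext x
    simp
  rw [h3, Lp_id]

/-- the simple reflections -/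
def sgE (i : Fin (n + 2)) : Equiv.Perm (Fin (n + 2) × Bool) := (show Function.Involutive (sg i) from sg_sg i).toPerm

theorem sgE_apply (i : Fin (n + 2)) (x : Fin (n + 2) × Bool) : sgE i x = sg i x := rfl

theorem act_simple (i : Fin (n + 2)) : Act cs (cs.simple i) (sgE i) := by
  refine ⟨fun x => sg_ng i x, fun x => ?_⟩
  rw [rep_simple, ee_refl]
  have h1 : Lp (sgE i) (ee x) = ∑ k, ee x k • (wt (k, true) - Cf i (wt (k, true)) • bt i) := by
    unfold Lp
    refine Finset.sum_congr rfl fun k _ => ?_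
    rw [sgE_apply, wt_sg]
  have h2 : ee x = ∑ k, ee x k • wt (k, true) := (Lp_id (ee x)).symm
  rw [h1]
  simp only [smul_sub, Finset.sum_sub_distrib, smul_smul, ← Finset.sum_smul]
  rw [← h2]
  congr 2
  conv_lhs => rw [h2]
  rw [Cf_sum]
  exact Finset.sum_congr rfl fun k _ => by rw [Cf_smul]

/-! ### permutations -/

/-- a permutation of the indices -/
def pe (σ : Equiv.Perm (Fin (n + 2))) : Equiv.Perm (Fin (n + 2) × Bool) := Equiv.prodCongr σ (Equiv.refl Bool)

theorem pe_apply (σ : Equiv.Perm (Fin (n + 2))) (x : Fin (n + 2) × Bool) : pe σ x = (σ x.1, x.2) := rfl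

theorem exists_perm (σ : Equiv.Perm (Fin (n + 2))) : ∃ w : W, Act cs w (pe σ) := by
  have h1 : σ ∈ Submonoid.closure (Set.range fun i : Fin (n + 1) => Equiv.swap i.castSucc i.succ) := by
    rw [Equiv.Perm.mclosure_swap_castSucc_succ]; trivial
  induction h1 using Submonoid.closure_induction with
  | mem x hx =>
    obtain ⟨i, rfl⟩ := hx
    refine ⟨cs.simple i.castSucc, ?_⟩
    have h2 : pe (Equiv.swap i.castSucc i.succ) = sgE i.castSucc := by
      ext1 x
      rw [pe_apply, sgE_apply]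
      obtain ⟨k, s⟩ := x
      have hi := i.2
      have h3 : ((i.castSucc : Fin (n + 2)) : ℕ) + 1 < n + 2 := by
        simp only [Fin.val_castSucc]; omega
      unfold sg
      rw [dif_pos h3]
      have h4 : (⟨(i.castSucc : Fin (n + 2)) + 1, h3⟩ : Fin (n + 2)) = i.succ := by
        ext; simp
      simp only [h4, Equiv.swap_apply_def]
      split_ifs <;> rfl
    rw [h2]
    exact act_simple _
  | one =>
    exact ⟨1, by
      have : pe (1 : Equiv.Perm (Fin (n + 2))) = 1 := by ext1 x; rfl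
      rw [this]; exact Act.one⟩
  | mul x y _ _ hx hy =>
    obtain ⟨w, hw⟩ := hx
    obtain ⟨w', hw'⟩ := hy
    exact ⟨_, by
      have : pe (x * y) = pe x * pe y := by ext1 x; rfl
      rw [this]; exact hw.mul hw'⟩

/-! ### sign changes -/

/-- the sign change on `B` -/
def fl (B : Finset (Fin (n + 2))) : Equiv.Perm (Fin (n + 2) × Bool) :=
  (show Function.Involutive (fun x : Fin (n + 2) × Bool => (x.1, xor x.2 (decide (x.1 ∈ B)))) from fun x => by
    simp).toPerm

theorem fl_apply (B : Finset (Fin (n + 2))) (x : Fin (n + 2) × Bool) : fl B x = (x.1, xor x.2 (decide (x.1 ∈ B))) := rfl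

theorem fl_inv (B : Finset (Fin (n + 2))) : (fl B)⁻¹ = fl B := by
  rw [inv_eq_iff_mul_eq_one]
  ext1 x
  rw [Equiv.Perm.mul_apply, fl_apply, fl_apply]
  simp

theorem fl_mul (B B' : Finset (Fin (n + 2))) : fl B * fl B' = fl (symmDiff B B') := by
  ext1 x
  rw [Equiv.Perm.mul_apply, fl_apply, fl_apply, fl_apply]
  simp only [Finset.mem_symmDiff]
  by_cases h1 : x.1 ∈ B <;> by_cases h2 : x.1 ∈ B' <;> simp [h1, h2]

theorem exists_flip_pair {a b : Fin (n + 2)} (hab : a ≠ b) : ∃ w : W, Act cs w (fl {a, b}) := by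
  have hne : (pd n : Fin (n + 2)) ≠ Fin.last (n + 1) := by
    intro h
    have := congrArg Fin.val h
    simp [pd] at this
  obtain ⟨σ, h1, h2⟩ := exists_perm_pair hne hab
  obtain ⟨w, hw⟩ := exists_perm (cs := cs) σ
  have h3 : Act cs (w * (cs.simple (Fin.last (n + 1)) * cs.simple (pd n)) * w⁻¹)
      (pe σ * (sgE (Fin.last (n + 1)) * sgE (pd n)) * (pe σ)⁻¹) :=
    (hw.mul ((act_simple _).mul (act_simple _))).mul hw.inv
  have h4 : fl {a, b} = pe σ * (sgE (Fin.last (n + 1)) * sgE (pd n)) * (pe σ)⁻¹ := by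
    rw [eq_mul_inv_iff_mul_eq]
    ext1 x
    obtain ⟨k, s⟩ := x
    rw [Equiv.Perm.mul_apply, Equiv.Perm.mul_apply, Equiv.Perm.mul_apply, pe_apply, fl_apply, sgE_apply, sgE_apply,
      pe_apply]
    have h5 : sg (Fin.last (n + 1)) (sg (pd n) (k, s)) =
        (k, xor s (decide (k = pd n ∨ k = Fin.last (n + 1)))) := by
      have hp : ((pd n : Fin (n + 2)) : ℕ) + 1 < n + 2 := by simp [pd]
      have hl : ¬ ((Fin.last (n + 1) : Fin (n + 2)) : ℕ) + 1 < n + 2 := by simp
      have hpl : (⟨((pd n : Fin (n + 2)) : ℕ) + 1, hp⟩ : Fin (n + 2)) = Fin.last (n + 1) := by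
        ext; simp [pd]
      unfold sg
      rw [dif_pos hp, dif_neg hl]
      simp only [hpl]
      by_cases hk1 : k = pd n
      · subst hk1
        simp
      · by_cases hk2 : k = Fin.last (n + 1)
        · subst hk2
          simp [hne, Ne.symm hne]
        · simp [hk1, hk2]
    rw [h5]
    simp only
    congr 2
    rw [decide_eq_decide, Finset.mem_insert, Finset.mem_singleton, ← h1, ← h2, σ.injective.eq_iff, σ.injective.eq_iff]
  rw [← h4] at h3
  exact ⟨_, h3⟩

/-- sign changes, up to the sign of the index `z` -/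
theorem exists_flip (z : Fin (n + 2)) (B' : Finset (Fin (n + 2))) :
    ∃ (w : W) (B : Finset (Fin (n + 2))), Act cs w (fl B) ∧ ∀ b, b ≠ z → (b ∈ B ↔ b ∈ B') := by
  classical
  induction B' using Finset.induction_on with
  | empty => exact ⟨1, ∅, by
      have : fl (∅ : Finset (Fin (n + 2))) = 1 := by ext1 x; rw [fl_apply]; simp
      rw [this]; exact Act.one, fun b _ => Iff.rfl⟩
  | insert a S ha ih =>
    obtain ⟨w, B, hw, hB⟩ := ih
    by_cases haz : a = z
    · refine ⟨w, B, hw, fun b hb => ?_⟩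
      rw [hB b hb, Finset.mem_insert, haz]
      simp [hb]
    · obtain ⟨w', hw'⟩ := exists_flip_pair (cs := cs) haz
      refine ⟨w' * w, symmDiff {a, z} B, ?_, fun b hb => ?_⟩
      · rw [← fl_mul]
        exact hw'.mul hw
      · rw [Finset.mem_symmDiff, hB b hb, Finset.mem_insert, Finset.mem_singleton, Finset.mem_insert]
        by_cases hba : b = a
        · subst hba
          simp [ha]
        · simp [hba, hb]

/-- transitivity on pairs of signed indices -/
theorem exists_two (hn : 1 ≤ n) {x y : Fin (n + 2) × Bool} (hxy : x.1 ≠ y.1) :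
    ∃ (w : W) (π : Equiv.Perm (Fin (n + 2) × Bool)), Act cs w π ∧ π (0, true) = x ∧ π (1, true) = y := by
  classical
  have h01 : (0 : Fin (n + 2)) ≠ 1 := by
    intro h
    have := congrArg Fin.val h
    simp at this
  obtain ⟨σ, h1, h2⟩ := exists_perm_pair h01 hxy
  obtain ⟨w, hw⟩ := exists_perm (cs := cs) σ
  obtain ⟨z, hz⟩ : ∃ z : Fin (n + 2), z ∉ ({x.1, y.1} : Finset (Fin (n + 2))) := by
    by_contra hcon
    push Not at hcon
    have h3 : (Finset.univ : Finset (Fin (n + 2))) ⊆ {x.1, y.1} := fun z _ => hcon z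
    have h4 := Finset.card_le_card h3
    have h5 := Finset.card_le_two (a := x.1) (b := y.1)
    rw [Finset.card_univ, Fintype.card_fin] at h4
    omega
  rw [Finset.mem_insert, Finset.mem_singleton, not_or] at hz
  obtain ⟨w', B, hw', hB⟩ := exists_flip (cs := cs) z
    ((if x.2 then ∅ else {x.1}) ∪ (if y.2 then ∅ else {y.1}))
  refine ⟨w' * w, fl B * pe σ, hw'.mul hw, ?_, ?_⟩
  · rw [Equiv.Perm.mul_apply, pe_apply, fl_apply]
    simp only [h1]
    have h3 := hB x.1 (Ne.symm hz.1)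
    have h4 : x.1 ∈ ((if x.2 then ∅ else {x.1}) ∪ (if y.2 then ∅ else {y.1}) : Finset (Fin (n + 2))) ↔ x.2 = false := by
      obtain ⟨a, s⟩ := x
      obtain ⟨b, t⟩ := y
      cases s <;> cases t <;> simp_all
    rw [h4] at h3
    obtain ⟨a, s⟩ := x
    cases s <;> simp_all
  · rw [Equiv.Perm.mul_apply, pe_apply, fl_apply]
    simp only [h2]
    have h3 := hB y.1 (Ne.symm hz.2)
    have h4 : y.1 ∈ ((if x.2 then ∅ else {x.1}) ∪ (if y.2 then ∅ else {y.1}) : Finset (Fin (n + 2))) ↔ y.2 = false := by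
      obtain ⟨a, s⟩ := x
      obtain ⟨b, t⟩ := y
      cases s <;> cases t <;> simp_all [eq_comm]
    rw [h4] at h3
    obtain ⟨a, s⟩ := y
    cases s <;> simp_all

theorem exists_two' (hn : 1 ≤ n) {u v x y : Fin (n + 2) × Bool} (huv : u.1 ≠ v.1) (hxy : x.1 ≠ y.1) :
    ∃ (w : W) (π : Equiv.Perm (Fin (n + 2) × Bool)), Act cs w π ∧ π u = x ∧ π v = y := by
  obtain ⟨w, π, hw, h1, h2⟩ := exists_two (cs := cs) hn huv
  obtain ⟨w', π', hw', h1', h2'⟩ := exists_two (cs := cs) hn hxy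
  refine ⟨w' * w⁻¹, π' * π⁻¹, hw'.mul hw.inv, ?_, ?_⟩
  · rw [Equiv.Perm.mul_apply, ← h1]
    change π' (π.symm (π (0, true))) = x
    rw [Equiv.symm_apply_apply, h1']
  · rw [Equiv.Perm.mul_apply, ← h2]
    change π' (π.symm (π (1, true))) = y
    rw [Equiv.symm_apply_apply, h2']

/-! ### separation of cosets -/

/-- the `i`-th fundamental weight -/
def Cc (i k : Fin (n + 2)) : ℤ :=
  if (i : ℕ) < n then (if k ≤ i then 1 else 0) else if (i : ℕ) = n then (if (k : ℕ) ≤ n then 1 else -1) else 1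

/-- the sign of a Boolean -/
def bs (s : Bool) : ℤ := if s then 1 else -1

/-- the `i`-th coordinate in terms of `ee` -/
def Sf (i : Fin (n + 2)) (u : Fin (n + 2) → ℤ) : ℤ := ∑ k, Cc i k * u k

theorem Sf_wt (i : Fin (n + 2)) (b : Fin (n + 2) × Bool) : Sf i (wt b) = bs b.2 * Cc i b.1 := by
  unfold Sf
  rw [Finset.sum_eq_single b.1]
  · rw [wt_apply, if_pos rfl, mul_comm]; rfl
  · intro k _ hk
    rw [wt_apply, if_neg hk, mul_zero]
  · intro h
    exact absurd (Finset.mem_univ _) h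

theorem Sf_add (i : Fin (n + 2)) (u v : Fin (n + 2) → ℤ) : Sf i (u + v) = Sf i u + Sf i v := by
  simp only [Sf, Pi.add_apply, mul_add, Finset.sum_add_distrib]

theorem Sf_smul (i : Fin (n + 2)) (c : ℤ) (u : Fin (n + 2) → ℤ) : Sf i (c • u) = c * Sf i u := by
  simp only [Sf, Pi.smul_apply, smul_eq_mul, Finset.mul_sum]
  exact Finset.sum_congr rfl fun k _ => by ring

theorem Sf_sum (i : Fin (n + 2)) (f : Fin (n + 2) → Fin (n + 2) → ℤ) : Sf i (∑ k, f k) = ∑ k, Sf i (f k) := by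
  simp only [Sf, Finset.sum_apply, Finset.mul_sum]
  exact Finset.sum_comm

theorem Sf_bt (i j : Fin (n + 2)) : Sf i (bt j) = if i = j then (if (i : ℕ) < n then 1 else 2) else 0 := by
  have hi := i.2
  have hj := j.2
  unfold bt
  rw [Sf_add, Sf_wt, Sf_wt]
  by_cases hj' : (j : ℕ) + 1 < n + 2
  · have h1 : nx j = (⟨j + 1, hj'⟩, false) := by unfold nx; rw [dif_pos hj']
    rw [h1]
    simp only [bs, Cc, Fin.le_def, Fin.ext_iff, if_true, Bool.false_eq_true, if_false]
    split_ifs <;> omega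
  · have h1 : nx j = (pd n, true) := by unfold nx; rw [dif_neg hj']
    rw [h1]
    simp only [bs, Cc, Fin.le_def, Fin.ext_iff, if_true, pd]
    split_ifs <;> omega

/-- the `i`-th coordinate in terms of `ee` -/
theorem Sf_ee (i : Fin (n + 2)) (x : Fin (n + 2) → ℤ) : Sf i (ee x) = (if (i : ℕ) < n then 1 else 2) * x i := by
  unfold ee
  rw [Sf_sum, Finset.sum_eq_single i]
  · rw [Sf_smul, Sf_bt, if_pos rfl, mul_comm]
  · intro j _ hj
    rw [Sf_smul, Sf_bt, if_neg (Ne.symm hj), mul_zero]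
  · intro h
    exact absurd (Finset.mem_univ _) h

/-- **Separation.** -/
theorem sep {J : Set (Fin (n + 2))} {i : Fin (n + 2)} (hi : i ∉ J) {w w' : W}
    {π π' : Equiv.Perm (Fin (n + 2) × Bool)} (hw : Act cs w π) (hw' : Act cs w' π') (hmem : w⁻¹ * w' ∈ WJ cs J)
    (a : Fin (n + 2) × Bool) : bs (π⁻¹ a).2 * Cc i (π⁻¹ a).1 = bs (π'⁻¹ a).2 * Cc i (π'⁻¹ a).1 := by
  obtain ⟨y, hy⟩ := exists_long cs a
  have h1 := coord_of_mem_WJ (h := isCartan n) hmem (rep cs (isCartan n) w'⁻¹ y) hi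
  rw [rep_mul_apply, rep_apply_inv] at h1
  have h2 : ∀ {v : W} {ρ : Equiv.Perm (Fin (n + 2) × Bool)}, Act cs v ρ →
      Sf i (ee (rep cs (isCartan n) v⁻¹ y)) = 2 * (bs (ρ⁻¹ a).2 * Cc i (ρ⁻¹ a).1) := by
    intro v ρ hv
    rw [hv.inv.2, hy, Lp_add, Lp_wt hv.inv.1, Sf_add, Sf_wt]
    ring
  have h3 := h2 hw
  have h4 := h2 hw'
  rw [Sf_ee, h1] at h3
  rw [Sf_ee] at h4
  linarith

end

end Cfsg.Agent.H156.Ppd.DSg
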